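import Cfsg.Prelude.Def_JankoFourType
import Cfsg.Agent.J4Type.POuter
import Cfsg.Agent.J4Type.IsPOf
import Cfsg.Agent.J4Type.OuterM22
import Cfsg.Agent.J2.ExtQuot
import Cfsg.Agent.Lib.Cores
import Cfsg.Agent.FastGrp
import Cfsg.Agent.Prune
set_option linter.all false
prune_inst 0x7f00000000000000000000000000000000000000000000000000000000000000000000000000000000000000000000000000000000000000000000000000000000000000000000000000000000000000003fffffffffffffffffffffffffffbeffbdffffffff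
open scoped Cfsg.Agent.FastGrp

/-!
# From the hypotheses of S1646 / S1670 to the Janko-four-type conditions

`Hyp.isOfJankoFourTypeAt` : `J4Type.Hyp t Q N M → IsOfJankoFourTypeAt t`.
-/

set_option autoImplicit false

namespace Cfsg.Agent.H337.JankoOfHyp

open Cfsg Cfsg.Agent.J4Type
open scoped commutatorElement Pointwise

variable {G : Type*} [Group G] [Finite G] {t : G}
  {Q N M : Subgroup (Subgroup.centralizer ({t} : Set G))}

/-- a normal 2-subgroup of `C` is contained in `Q` -/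
theorem le_Q (H : Hyp t Q N M) (O : Subgroup (Subgroup.centralizer ({t} : Set G))) (hO : O.Normal)
    (h2 : IsPGroup 2 O) (hQO : Q ≤ O) : O = Q := by
  have : Fact (Nat.Prime 2) := ⟨Nat.prime_two⟩
  have hM := H.Mn
  have hN := H.Nn
  -- `O ∩ M ≤ N`
  have h1 : O ⊓ M ≤ N := by
    obtain ⟨π, hs, hker⟩ := H.pi
    have : IsSimpleGroup Cfsg.Spor.M22 := Cfsg.Agent.SporadicA.MathieuRecog.simple_M22
    have hn : ((O.subgroupOf M).map π).Normal := Subgroup.Normal.map inferInstance π hs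
    have hp : IsPGroup 2 (O.subgroupOf M) :=
      h2.of_injective (Subgroup.inclusion (inf_le_left : O ⊓ M ≤ O) |>.comp
        (MonoidHom.codRestrict (M.subtype.comp (O.subgroupOf M).subtype) (O ⊓ M)
          (fun x => ⟨x.2, x.1.2⟩)))
        (fun x y h => by
          apply Subtype.ext
          apply Subtype.ext
          exact congrArg (fun z : O => (z : Subgroup.centralizer ({t} : Set G))) h)
    rcases hn.eq_bot_or_eq_top with h | h
    · rintro x ⟨hx1, hx2⟩
      rw [← hker ⟨x, hx2⟩]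
      have : π ⟨x, hx2⟩ ∈ (O.subgroupOf M).map π := ⟨⟨x, hx2⟩, hx1, rfl⟩
      rw [h] at this
      exact Subgroup.mem_bot.1 this
    · exfalso
      have hp' : IsPGroup 2 ((O.subgroupOf M).map π) := hp.map π
      rw [h] at hp'
      obtain ⟨n, hn⟩ := hp'.exists_card_eq
      rw [Nat.card_congr (Subgroup.topEquiv (G := Cfsg.Spor.M22)).toEquiv,
        Cfsg.Agent.SporadicA.MathieuRecog.card_M22] at hn
      have : 7 ∣ 2 ^ n := by rw [← hn]; norm_num
      have := (Nat.prime_dvd_prime_iff_eq (by norm_num) Nat.prime_two).1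
        (Nat.Prime.dvd_of_dvd_pow (by norm_num : Nat.Prime 7) this)
      omega
  -- `O ∩ M = Q`
  have h3 : O ⊓ M = Q := by
    symm
    apply Subgroup.eq_of_le_of_card_ge (le_inf hQO (H.QN.trans H.NM))
    have hp : IsPGroup 2 (O ⊓ M : Subgroup _) := h2.to_le inf_le_left
    obtain ⟨n, hn⟩ := hp.exists_card_eq
    have hd : Nat.card (O ⊓ M : Subgroup _) ∣ Nat.card N := Subgroup.card_dvd_of_le h1
    rw [hn, H.card_N] at hd
    have hd' : 2 ^ n ∣ Nat.card Q := by
      exact Nat.Coprime.dvd_of_dvd_mul_left (Nat.Coprime.pow_left n (by norm_num)) hd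
    rw [hn]
    exact Nat.le_of_dvd Nat.card_pos hd'
  -- `O ≤ M`
  have h4 : O ≤ M := by
    intro x hx
    apply H.out
    intro m hm
    apply H.QN
    rw [← h3]
    refine ⟨?_, ?_⟩
    · have h5 : x * (m * x⁻¹ * m⁻¹) ∈ O := O.mul_mem hx (hO.conj_mem _ (O.inv_mem hx) m)
      have h6 : x * m * x⁻¹ * m⁻¹ = x * (m * x⁻¹ * m⁻¹) := by group
      rw [h6]; exact h5
    · exact M.mul_mem (hM.conj_mem m hm x) (M.inv_mem hm)
  rw [← h3]
  exact (inf_eq_left.2 h4).symm

theorem pCore_eq (H : Hyp t Q N M) : pCore 2 ↥(Subgroup.centralizer ({t} : Set G)) = Q := by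
  have : Fact (Nat.Prime 2) := ⟨Nat.prime_two⟩
  have hQ : IsPGroup 2 Q := IsPGroup.of_card H.card_Q
  exact le_Q H _ (Cfsg.Agent.Lib.Cores.pCore_normal 2) (Cfsg.Agent.Lib.Cores.pCore_isPGroup 2)
    (Cfsg.Agent.Lib.Cores.le_pCore H.Qn hQ)

theorem twoCore_eq (H : Hyp t Q N M) :
    twoCoreOfCentralizer t = Q.map (Subgroup.centralizer ({t} : Set G)).subtype := by
  rw [twoCoreOfCentralizer, pCore_eq H]

/-! ### The quotient `C / N` -/

open Cfsg.Agent.BabyM.DuadGen Cfsg.Agent.SporadicA.MathieuRecog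

theorem conj_mem_M22 {d m : Equiv.Perm GolayPt} (hd : d ∈ duad) (hm : m ∈ Spor.M22) :
    d * m * d⁻¹ ∈ Spor.M22 := by
  obtain ⟨h1, h2, h3⟩ := (mem_M22_iff m).1 hm
  obtain ⟨h4, h5⟩ := mem_duad.1 hd
  rw [mem_M22_iff]
  refine ⟨mul_mem (mul_mem h4 h1) (inv_mem h4), ?_⟩
  simp only [Equiv.Perm.mul_apply]
  rcases h5 with ⟨h6, h7⟩ | ⟨h6, h7⟩
  · have h8 : d⁻¹ none = none := by rw [Equiv.Perm.inv_eq_iff_eq, h6]
    have h9 : d⁻¹ (some 0) = some 0 := by rw [Equiv.Perm.inv_eq_iff_eq, h7]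
    rw [h8, h9, h2, h3, h6, h7]
    exact ⟨rfl, rfl⟩
  · have h8 : d⁻¹ none = some 0 := by rw [Equiv.Perm.inv_eq_iff_eq, h7]
    have h9 : d⁻¹ (some 0) = none := by rw [Equiv.Perm.inv_eq_iff_eq, h6]
    rw [h8, h9, h2, h3, h6, h7]
    exact ⟨rfl, rfl⟩

/-- the duad stabiliser acts on `M22` by conjugation -/
def duadHom : duad →* MulAut Spor.M22 where
  toFun d :=
    { toFun := fun m => ⟨d * m * (d : Equiv.Perm GolayPt)⁻¹, conj_mem_M22 d.2 m.2⟩
      invFun := fun m => ⟨(d : Equiv.Perm GolayPt)⁻¹ * m * ((d : Equiv.Perm GolayPt)⁻¹)⁻¹,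
        conj_mem_M22 (inv_mem d.2) m.2⟩
      left_inv := fun m => Subtype.ext (by
        show (d : Equiv.Perm GolayPt)⁻¹ * (d * m * (d : Equiv.Perm GolayPt)⁻¹) *
          ((d : Equiv.Perm GolayPt)⁻¹)⁻¹ = m
        group)
      right_inv := fun m => Subtype.ext (by
        show (d : Equiv.Perm GolayPt) * ((d : Equiv.Perm GolayPt)⁻¹ * m *
          ((d : Equiv.Perm GolayPt)⁻¹)⁻¹) * (d : Equiv.Perm GolayPt)⁻¹ = m
        group)
      map_mul' := fun a b => Subtype.ext (by
        show (d : Equiv.Perm GolayPt) * (a * b) * (d : Equiv.Perm GolayPt)⁻¹ =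
          (d * a * (d : Equiv.Perm GolayPt)⁻¹) * (d * b * (d : Equiv.Perm GolayPt)⁻¹)
        group) }
  map_one' := by
    apply MulEquiv.ext
    intro m
    apply Subtype.ext
    show (1 : Equiv.Perm GolayPt) * m * (1 : Equiv.Perm GolayPt)⁻¹ = m
    group
  map_mul' := fun a b => by
    apply MulEquiv.ext
    intro m
    apply Subtype.ext
    show ((a * b : Equiv.Perm GolayPt)) * m * (a * b : Equiv.Perm GolayPt)⁻¹ =
      a * (b * m * (b : Equiv.Perm GolayPt)⁻¹) * (a : Equiv.Perm GolayPt)⁻¹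
    group

theorem duadHom_bijective : Function.Bijective duadHom := by
  constructor
  · intro a b hab
    obtain ⟨τ, -, h2⟩ := OuterM22.aut_M22 (duadHom a)
    have h3 : (a : Equiv.Perm GolayPt) = τ := h2 a ⟨a.2, fun g => rfl⟩
    have h4 : (b : Equiv.Perm GolayPt) = τ := h2 b ⟨b.2, fun g => by rw [hab]; rfl⟩
    exact Subtype.ext (h3.trans h4.symm)
  · intro α
    obtain ⟨τ, ⟨h1, h2⟩, -⟩ := OuterM22.aut_M22 α
    refine ⟨⟨τ, h1⟩, ?_⟩
    apply MulEquiv.ext
    intro m
    apply Subtype.ext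
    exact (h2 m).symm

theorem exists_quot (H : Hyp t Q N M) :
    ∃ _ : N.Normal, Nonempty (↥(Subgroup.centralizer ({t} : Set G)) ⧸ N ≃* MulAut Spor.M22) := by
  refine ⟨H.Nn, ?_⟩
  obtain ⟨P, hP⟩ := H.exists_isP
  have hr : P.range = duad := by rw [hP.range, ← duad_eq_M22d]
  let P' : Subgroup.centralizer ({t} : Set G) →* duad :=
    P.codRestrict duad (fun c => by rw [← hr]; exact ⟨c, rfl⟩)
  let f : Subgroup.centralizer ({t} : Set G) →* MulAut Spor.M22 := duadHom.comp P'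
  have hf : Function.Surjective f := by
    apply duadHom_bijective.2.comp
    rintro ⟨d, hd⟩
    rw [← hr] at hd
    obtain ⟨c, hc⟩ := hd
    exact ⟨c, Subtype.ext hc⟩
  have hk : N = f.ker := by
    ext c
    rw [← hP.ker, MonoidHom.mem_ker, MonoidHom.mem_ker]
    show P c = 1 ↔ duadHom (P' c) = 1
    rw [map_eq_one_iff duadHom duadHom_bijective.1]
    constructor
    · intro h; exact Subtype.ext h
    · intro h; exact congrArg Subtype.val h
  have := H.Nn
  exact ⟨(QuotientGroup.quotientMulEquivOfEq hk).trans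
    (QuotientGroup.quotientKerEquivOfSurjective f hf)⟩

/-! ### The element `r` of order 3 -/

section

variable {r : Subgroup.centralizer ({t} : Set G)}

theorem fix (H : Hyp t Q N M) (hr : r ∈ N) (hrQ : r ∉ Q) (hr3 : r ^ 3 = 1)
    {q : Subgroup.centralizer ({t} : Set G)} (hq : q ∈ Q) (hc : r * q = q * r) :
    q = 1 ∨ q = tC t := by
  obtain ⟨P, hP⟩ := H.exists_isP
  rcases (H.toCent hP hr hrQ hr3).ρ_fix (q : G) ⟨q, hq, rfl⟩
    (congrArg (Subtype.val : Subgroup.centralizer ({t} : Set G) → G) hc) with h | h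
  · exact Or.inl (Subtype.ext h)
  · exact Or.inr (Subtype.ext h)

theorem ne_one (hrQ : r ∉ Q) : r ≠ 1 := fun h => hrQ (h ▸ one_mem _)

theorem order (hrQ : r ∉ Q) (hr3 : r ^ 3 = 1) : orderOf r = 3 := by
  have : Fact (Nat.Prime 3) := ⟨Nat.prime_three⟩
  exact orderOf_eq_prime hr3 (ne_one hrQ)

theorem zpow_cases (hr3 : r ^ 3 = 1) {x : Subgroup.centralizer ({t} : Set G)}
    (hx : x ∈ Subgroup.zpowers r) : x = 1 ∨ x = r ∨ x = r⁻¹ := by
  obtain ⟨k, rfl⟩ := Subgroup.mem_zpowers_iff.1 hx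
  have h5 : r ^ k = r ^ (k % 3) := by
    conv_lhs => rw [← Int.emod_add_mul_ediv k 3, zpow_add, zpow_mul]
    rw [show r ^ (3 : ℤ) = 1 by exact_mod_cast hr3, one_zpow, mul_one]
  rw [h5]
  have h6 : 0 ≤ k % 3 := Int.emod_nonneg _ (by norm_num)
  have h7 : k % 3 < 3 := Int.emod_lt_of_pos _ (by norm_num)
  interval_cases h : k % 3
  · left; rw [zpow_zero]
  · right; left; rw [zpow_one]
  · right; right
    rw [eq_inv_iff_mul_eq_one, ← zpow_add_one]
    exact_mod_cast hr3

/-- two subgroups of order 3 of `N` are conjugate in `N` -/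
theorem exists_conj (H : Hyp t Q N M) (hr : r ∈ N) (hrQ : r ∉ Q) (hr3 : r ^ 3 = 1)
    {r' : Subgroup.centralizer ({t} : Set G)} (hr' : r' ∈ N) (hr3' : r' ^ 3 = 1) :
    ∃ n ∈ N, n * r' * n⁻¹ ∈ Subgroup.zpowers r := by
  have : Fact (Nat.Prime 3) := ⟨Nat.prime_three⟩
  have hfac : (Nat.card N).factorization 3 = 1 := by
    rw [H.card_N, H.card_Q, Nat.factorization_mul (by norm_num) (by norm_num),
      Nat.Prime.factorization Nat.prime_three, Nat.Prime.factorization_pow Nat.prime_two]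
    simp
  let S0 : Subgroup N := Subgroup.zpowers ⟨r, hr⟩
  have ho : orderOf (⟨r, hr⟩ : N) = 3 := by rw [Subgroup.orderOf_mk, order hrQ hr3]
  have hS0 : Nat.card S0 = 3 := by rw [Nat.card_zpowers, ho]
  let S : Sylow 3 N := Sylow.ofCard S0 (by rw [hfac, hS0, pow_one])
  have hp : IsPGroup 3 (Subgroup.zpowers (⟨r', hr'⟩ : N)) := by
    intro x
    obtain ⟨x, hx⟩ := x
    obtain ⟨k, rfl⟩ := Subgroup.mem_zpowers_iff.1 hx
    refine ⟨1, Subtype.ext ?_⟩
    show ((⟨r', hr'⟩ : N) ^ k) ^ 3 ^ 1 = 1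
    rw [pow_one, ← zpow_natCast, ← zpow_mul, mul_comm, zpow_mul]
    have : (⟨r', hr'⟩ : N) ^ ((3 : ℕ) : ℤ) = 1 := by
      rw [zpow_natCast]
      exact Subtype.ext hr3'
    rw [this, one_zpow]
  obtain ⟨S', hS'⟩ := hp.exists_le_sylow
  obtain ⟨n, hn⟩ := MulAction.exists_smul_eq N S' S
  refine ⟨n, n.2, ?_⟩
  have h1 : n * ⟨r', hr'⟩ * n⁻¹ ∈ (S : Subgroup N) := by
    rw [← hn]
    exact ⟨⟨r', hr'⟩, hS' (Subgroup.mem_zpowers _), rfl⟩
  have h2 : n * ⟨r', hr'⟩ * n⁻¹ ∈ Subgroup.zpowers (⟨r, hr⟩ : N) := h1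
  obtain ⟨k, hk⟩ := Subgroup.mem_zpowers_iff.1 h2
  rw [Subgroup.mem_zpowers_iff]
  exact ⟨k, congrArg Subtype.val hk⟩

theorem exists_inner (H : Hyp t Q N M) (hr : r ∈ N) (hrQ : r ∉ Q) (hr3 : r ^ 3 = 1)
    {m : Subgroup.centralizer ({t} : Set G)} (hm : m ∈ M) :
    ∃ n ∈ N, (n * m) * r * (n * m)⁻¹ = r := by
  have hN := H.Nn
  have h3 : (m * r * m⁻¹) ^ 3 = 1 := by rw [conj_pow, hr3]; group
  obtain ⟨n, hn, h⟩ := exists_conj H hr hrQ hr3 (hN.conj_mem r hr m) h3
  refine ⟨n, hn, ?_⟩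
  have e1 : n * (m * r * m⁻¹) * n⁻¹ = (n * m) * r * (n * m)⁻¹ := by group
  rw [e1] at h
  have c1 : Commute (H.large.act (n * m)) (H.large.act r) :=
    H.act_comm (M.mul_mem (H.NM hn) hm) hr
  have hact : H.large.act ((n * m) * r * (n * m)⁻¹) = H.large.act r := by
    rw [map_mul, map_mul, map_inv, c1.eq, mul_inv_cancel_right]
  rcases zpow_cases hr3 h with h | h | h
  · exfalso
    rw [h, map_one] at hact
    exact hrQ (H.act_eq_one.1 hact.symm)
  · exact h
  · exfalso
    rw [h, map_inv] at hact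
    have h4 : H.large.act r ^ 3 = 1 := by rw [← map_pow, hr3, map_one]
    have h5 : H.large.act r * H.large.act r = 1 := by
      rw [← inv_eq_iff_mul_eq_one]; exact hact
    rw [pow_succ, pow_two, h5, one_mul] at h4
    exact hrQ (H.act_eq_one.1 h4)

theorem exists_outer (H : Hyp t Q N M) (hr : r ∈ N) (hrQ : r ∉ Q) (hr3 : r ^ 3 = 1) :
    ∃ g : Subgroup.centralizer ({t} : Set G), g * r * g⁻¹ = r⁻¹ := by
  have hN := H.Nn
  obtain ⟨P, hP⟩ := H.exists_isP
  have hMt : M ≠ ⊤ := by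
    intro h
    have := H.index_M
    rw [h, Subgroup.index_top] at this
    omega
  obtain ⟨d, hd⟩ : ∃ d, d ∉ M := by
    by_contra h
    push Not at h
    exact hMt ((Subgroup.eq_top_iff' M).2 h)
  have hinv := H.outer_inv' hP hr hrQ hr3 hd
  have h3 : (d * r * d⁻¹) ^ 3 = 1 := by rw [conj_pow, hr3]; group
  obtain ⟨n, hn, h⟩ := exists_conj H hr hrQ hr3 (hN.conj_mem r hr d) h3
  refine ⟨n * d, ?_⟩
  have e1 : n * (d * r * d⁻¹) * n⁻¹ = (n * d) * r * (n * d)⁻¹ := by group
  rw [e1] at h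
  have c1 : Commute (H.large.act n) (H.large.act r) := H.act_comm (H.NM hn) hr
  have hact : H.large.act ((n * d) * r * (n * d)⁻¹) = (H.large.act r)⁻¹ := by
    rw [map_mul, map_mul, map_inv, map_mul, mul_assoc (H.large.act n), hinv,
      mul_inv_rev, ← mul_assoc, ← mul_assoc, c1.inv_right.eq]
    group
  have h4 : H.large.act r ^ 3 = 1 := by rw [← map_pow, hr3, map_one]
  rcases zpow_cases hr3 h with h | h | h
  · exfalso
    rw [h, map_one, eq_comm, inv_eq_one] at hact
    exact hrQ (H.act_eq_one.1 hact)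
  · exfalso
    rw [h] at hact
    have h5 : H.large.act r * H.large.act r = 1 := by
      rw [← eq_inv_iff_mul_eq_one]; exact hact
    rw [pow_succ, pow_two, h5, one_mul] at h4
    exact hrQ (H.act_eq_one.1 h4)
  · exact h

theorem mem_commutator (H : Hyp t Q N M) (hr : r ∈ N) (hrQ : r ∉ Q) (hr3 : r ^ 3 = 1) :
    r ∈ ⁅Subgroup.centralizer ({r} : Set (Subgroup.centralizer ({t} : Set G))),
      Subgroup.centralizer ({r} : Set (Subgroup.centralizer ({t} : Set G)))⁆ := by
  have hQ := H.Qn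
  set D := Subgroup.centralizer ({r} : Set (Subgroup.centralizer ({t} : Set G))) with hD
  have hrD : r ∈ D := Subgroup.mem_centralizer_singleton_iff.2 rfl
  have hND : N ≤ D ⊔ Q := by
    intro n hn
    have h2 : ∃ i : ℕ, H.large.act n = H.large.act (r ^ i) := by
      rcases H.act_N hr hrQ hr3 hn with h | h | h
      · exact ⟨0, by rw [h, pow_zero, map_one]⟩
      · exact ⟨1, by rw [h, pow_one]⟩
      · exact ⟨2, by rw [h, map_pow]⟩
    obtain ⟨i, hi⟩ := h2
    have h3 := H.act_eq_act.1 hi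
    have h4 : n = r ^ i * ((r ^ i)⁻¹ * n) := by group
    rw [h4]
    exact Subgroup.mul_mem_sup (D.pow_mem hrD i) h3
  have hMD : M ≤ D ⊔ Q := by
    intro m hm
    obtain ⟨n, hn, h⟩ := exists_inner H hr hrQ hr3 hm
    have h1 : n * m ∈ D := by
      rw [hD, Subgroup.mem_centralizer_singleton_iff]
      exact mul_inv_eq_iff_eq_mul.1 h
    have h2 : m = n⁻¹ * (n * m) := by group
    rw [h2]
    exact (D ⊔ Q).mul_mem ((D ⊔ Q).inv_mem (hND hn)) (le_sup_left (a := D) h1)
  let f := QuotientGroup.mk' Q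
  have hfQ : Q.map f = ⊥ := by
    rw [Subgroup.map_eq_bot_iff, QuotientGroup.ker_mk']
  have h1 : f r ∈ (⁅D, D⁆).map f := by
    have h2 : M.map f ≤ (⁅D, D⁆).map f := by
      calc M.map f ≤ (⁅M, M⁆ ⊔ Q).map f := Subgroup.map_mono H.perf
        _ = ⁅M.map f, M.map f⁆ := by rw [Subgroup.map_sup, hfQ, sup_bot_eq, Subgroup.map_commutator]
        _ ≤ ⁅(D ⊔ Q).map f, (D ⊔ Q).map f⁆ :=
          Subgroup.commutator_mono (Subgroup.map_mono hMD) (Subgroup.map_mono hMD)
        _ = (⁅D, D⁆).map f := by rw [Subgroup.map_sup, hfQ, sup_bot_eq, Subgroup.map_commutator]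
    exact h2 ⟨r, H.NM hr, rfl⟩
  obtain ⟨c, hc, hcr⟩ := h1
  have hq : r⁻¹ * c ∈ Q := QuotientGroup.eq.1 hcr.symm
  have hcD : c ∈ D := Subgroup.commutator_le_self D hc
  have hqD : r⁻¹ * c ∈ D := D.mul_mem (D.inv_mem hrD) hcD
  have hcomm : r * (r⁻¹ * c) = (r⁻¹ * c) * r := (Subgroup.mem_centralizer_singleton_iff.1 hqD).symm
  have hcomm' : Commute r (r⁻¹ * c) := hcomm
  have h2 : (r⁻¹ * c) ^ 2 = 1 := by
    rcases fix H hr hrQ hr3 hq hcomm with h | h
    · rw [h, one_pow]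
    · rw [h]
      apply Subtype.ext
      show (t : G) ^ 2 = 1
      rw [pow_two, H.tt]
  have h3 : c ^ 4 = r := by
    have h4 : c = r * (r⁻¹ * c) := by group
    rw [h4, hcomm'.mul_pow, show 4 = 2 * 2 from rfl, pow_mul (r⁻¹ * c), h2, one_pow, mul_one,
      show 2 * 2 = 3 + 1 from rfl, pow_succ, hr3, one_mul]
  rw [← h3]
  exact (⁅D, D⁆).pow_mem hc 4

end

/-! ### Assembly -/

theorem map_subtype_subgroupOf {A : Type*} [Group A] (C : Subgroup A) (K : Subgroup C) :
    (K.map C.subtype).subgroupOf C = K :=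
  Subgroup.comap_map_eq_self_of_injective (Subgroup.subtype_injective C) K

theorem isOfJankoFourTypeAt (H : Hyp t Q N M) : IsOfJankoFourTypeAt t := by
  obtain ⟨r, hr, hrQ, hr3⟩ := H.exists_r
  have hQn := H.Qn
  have hNn := H.Nn
  have hrG3 : (r : G) ^ 3 = 1 := congrArg Subtype.val hr3
  have hPz : ∀ x : G, x ∈ Subgroup.zpowers (r : G) ↔
      ∃ y ∈ Subgroup.zpowers r, (y : G) = x := by
    intro x
    constructor
    · intro hx
      obtain ⟨k, rfl⟩ := Subgroup.mem_zpowers_iff.1 hx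
      exact ⟨r ^ k, Subgroup.zpow_mem _ (Subgroup.mem_zpowers r) k, by simp⟩
    · rintro ⟨y, hy, rfl⟩
      obtain ⟨k, rfl⟩ := Subgroup.mem_zpowers_iff.1 hy
      exact Subgroup.mem_zpowers_iff.2 ⟨k, by simp⟩
  have hcenP : ∀ x : G, x ∈ Subgroup.centralizer (Subgroup.zpowers (r : G) : Set G) ↔
      x * r = r * x := by
    intro x
    rw [Subgroup.mem_centralizer_iff]
    constructor
    · intro h
      exact (h r (Subgroup.mem_zpowers _)).symm
    · intro h y hy
      obtain ⟨k, rfl⟩ := Subgroup.mem_zpowers_iff.1 hy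
      have h1 : Commute (r : G) x := h.symm
      exact (h1.zpow_left k).eq
  refine ⟨Subgroup.zpowers (r : G), H.ht, ?_, ?_, ?_, ?_, ?_, ?_, ?_, ?_⟩
  · rw [twoCore_eq H]
    have : Finite Q := inferInstance
    exact Cfsg.Agent.J2.ExtQuot.isExtraspecial_of_equiv
      (Q.equivMapOfInjective (Subgroup.centralizer ({t} : Set G)).subtype (Subgroup.subtype_injective _)) H.extra
  · rw [twoCore_eq H]
    exact H.card_QG
  · rw [twoCore_eq H]
    rintro x ⟨hx1, hx2⟩
    refine ⟨⟨x, hx1⟩, H.self ?_, rfl⟩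
    rw [Subgroup.mem_centralizer_iff]
    intro q hq
    apply Subtype.ext
    exact Subgroup.mem_centralizer_iff.1 hx2 (q : G) ⟨q, hq, rfl⟩
  · rw [twoCore_eq H]
    refine ⟨N.map (Subgroup.centralizer ({t} : Set G)).subtype, Subgroup.map_mono H.QN, Subgroup.map_subtype_le N, ?_, ?_, ?_, ?_⟩
    · intro g hg
      rw [Subgroup.mem_normalizer_iff]
      intro x
      constructor
      · rintro ⟨y, hy, rfl⟩
        exact ⟨_, hNn.conj_mem y hy ⟨g, hg⟩, rfl⟩
      · rintro ⟨y, hy, hyx⟩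
        refine ⟨_, hNn.conj_mem y hy ⟨g, hg⟩⁻¹, ?_⟩
        show g⁻¹ * (y : G) * (g⁻¹)⁻¹ = x
        have hyx' : (y : G) = g * x * g⁻¹ := hyx
        rw [hyx']
        group
    · rw [Nat.card_congr (N.equivMapOfInjective (Subgroup.centralizer ({t} : Set G)).subtype (Subgroup.subtype_injective _)).symm.toEquiv,
        Nat.card_congr (Q.equivMapOfInjective (Subgroup.centralizer ({t} : Set G)).subtype (Subgroup.subtype_injective _)).symm.toEquiv,
        H.card_N]
    · rw [map_subtype_subgroupOf]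
      exact exists_quot H
    · rw [Subgroup.zpowers_le]
      exact ⟨r, hr, rfl⟩
  · rw [Nat.card_zpowers, Subgroup.orderOf_coe, order hrQ hr3]
  · rw [twoCore_eq H]
    apply le_antisymm
    · rintro x ⟨⟨q, hq, rfl⟩, hx⟩
      have hx' := (hcenP _).1 hx
      rcases fix H hr hrQ hr3 hq (Subtype.ext hx'.symm) with h | h
      · rw [h]; exact one_mem _
      · rw [h]; exact Subgroup.mem_zpowers t
    · rw [Subgroup.zpowers_le]
      refine ⟨⟨tC t, H.tC_mem, rfl⟩, (hcenP _).2 ?_⟩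
      exact (Subgroup.mem_centralizer_singleton_iff.1 r.2).symm
  · intro h
    obtain ⟨g, hg⟩ := exists_outer H hr hrQ hr3
    have h1 : (g : G) ∈ Subgroup.centralizer ({t} : Set G) ⊓ Subgroup.normalizer (Subgroup.zpowers (r : G) : Set G) := by
      refine ⟨g.2, ?_⟩
      have hg' : (g : G) * r * (g : G)⁻¹ = (r : G)⁻¹ := congrArg Subtype.val hg
      have h2 : ∀ k : ℤ, (g : G) * (r : G) ^ k * (g : G)⁻¹ = (r : G) ^ (-k) := by
        intro k
        have h3 : (g : G) * (r : G) ^ k * (g : G)⁻¹ = ((g : G) * r * (g : G)⁻¹) ^ k :=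
          (conj_zpow).symm
        rw [h3, hg', inv_zpow, zpow_neg]
      show (g : G) ∈ Subgroup.normalizer (Subgroup.zpowers (r : G) : Set G)
      rw [Subgroup.mem_normalizer_iff]
      intro x
      constructor
      · intro hx
        obtain ⟨k, rfl⟩ := Subgroup.mem_zpowers_iff.1 hx
        exact Subgroup.mem_zpowers_iff.2 ⟨-k, (h2 k).symm⟩
      · intro hx
        obtain ⟨k, hk⟩ := Subgroup.mem_zpowers_iff.1 hx
        refine Subgroup.mem_zpowers_iff.2 ⟨-k, ?_⟩
        have h3 := h2 (-k)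
        rw [neg_neg, hk] at h3
        have h4 : (r : G) ^ (-k) = x := by
          have := congrArg (fun y => (g : G)⁻¹ * y * (g : G)) h3
          simpa [mul_assoc] using this
        exact h4
    rw [h] at h1
    have h2 := (hcenP _).1 h1.2
    have h3 : r = r⁻¹ := by
      rw [← hg]
      apply Subtype.ext
      show (r : G) = g * r * (g : G)⁻¹
      rw [h2, mul_inv_cancel_right]
    have h4 : r * r = 1 := by
      conv_lhs => lhs; rw [h3]
      exact inv_mul_cancel r
    have h5 := hr3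
    rw [pow_succ, pow_two, h4, one_mul] at h5
    exact ne_one hrQ h5
  · rw [Subgroup.zpowers_le]
    have h1 := mem_commutator H hr hrQ hr3
    have h2 : (Subgroup.centralizer ({r} : Set (Subgroup.centralizer ({t} : Set G)))).map (Subgroup.centralizer ({t} : Set G)).subtype ≤
        Subgroup.centralizer ({t} : Set G) ⊓ Subgroup.centralizer (Subgroup.zpowers (r : G) : Set G) := by
      rintro _ ⟨x, hx, rfl⟩
      refine ⟨x.2, (hcenP _).2 ?_⟩
      exact congrArg (Subtype.val : Subgroup.centralizer ({t} : Set G) → G) (Subgroup.mem_centralizer_singleton_iff.1 hx)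
    have h3 : (r : G) ∈ (⁅Subgroup.centralizer ({r} : Set (Subgroup.centralizer ({t} : Set G))),
        Subgroup.centralizer ({r} : Set (Subgroup.centralizer ({t} : Set G)))⁆).map (Subgroup.centralizer ({t} : Set G)).subtype := ⟨r, h1, rfl⟩
    rw [Subgroup.map_commutator] at h3
    exact Subgroup.commutator_mono h2 h2 h3

end Cfsg.Agent.H337.JankoOfHyp

private theorem dce_b71b2f98f4d1 : _root_.True := by
  try have : _root_.True := by simp only [_root_.Cfsg.twoCoreOfCentralizer.eq_1]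
  exact _root_.True.intro
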