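import Cfsg.Agent.H455.NoNine
import Cfsg.Agent.S0088
import Mathlib
import Cfsg.Agent.H341.ThreeList_m3
import Cfsg.Agent.S0279
import Cfsg.Agent.ClassificationK.GTwoChev
import Cfsg.Agent.H337.MTwentyFour
import Cfsg.Agent.FastGrp
import Cfsg.Agent.Prune
set_option linter.all false
prune_inst 0x7ff0bdfbaff82ddfdfff7e7faeddddfc3994dfffafdff94bffe869ffafdf230a09c5638909e050fe0ed7c21c10a87843fb7eeeffea6bdc7ffffd5ff41ffbee5fe5f7b508719688340f3c2ff703f07f8e7f3fffffffffffffffffffffffffffbeffbfffffffff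
open scoped Cfsg.Agent.FastGrp

-- part: H337/ThreeCent
section
/-!
# Perfect central extensions of `M22` by a group of order 3 or 6: the Sylow 3-subgroups
-/

set_option autoImplicit false

namespace Cfsg.Agent.H337.ThreeCent

open Cfsg

/-- every 3-element of `M22` has order 1 or 3 -/
theorem M22_cube {a : Spor.M22} {k : ℕ} (ha : a ^ 3 ^ k = 1) : a ^ 3 = 1 := by
  have : Fact (Nat.Prime 3) := ⟨Nat.prime_three⟩
  have hfin : Finite Spor.M22 := inferInstance
  by_contra h3
  -- an element of order 9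
  obtain ⟨j, hj⟩ : ∃ j, orderOf a = 3 ^ j := (Nat.dvd_prime_pow Nat.prime_three).1
    (orderOf_dvd_of_pow_eq_one ha) |>.imp fun _ h => h.2
  have hj2 : 2 ≤ j := by
    by_contra hlt
    apply h3
    apply orderOf_dvd_iff_pow_eq_one.1
    rw [hj]
    calc 3 ^ j ∣ 3 ^ 1 := pow_dvd_pow 3 (by omega)
      _ = 3 := by norm_num
  obtain ⟨i, rfl⟩ : ∃ i, j = i + 2 := ⟨j - 2, by omega⟩
  have hb : orderOf (a ^ 3 ^ i) = 9 := by
    rw [orderOf_pow_of_dvd (by positivity) (by rw [hj]; exact pow_dvd_pow 3 (by omega)), hj, pow_add]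
    rw [Nat.mul_div_cancel_left _ (by positivity)]
    norm_num
  set b := a ^ 3 ^ i with hbdef
  -- the Sylow subgroup containing it is cyclic of order 9
  have hpb : IsPGroup 3 (Subgroup.zpowers b) := by
    rw [IsPGroup.iff_card]
    exact ⟨2, by rw [Nat.card_zpowers, hb]; norm_num⟩
  obtain ⟨R, hR⟩ := hpb.exists_le_sylow
  have hcard : Nat.card (R : Subgroup Spor.M22) = 9 := by
    rw [R.card_eq_multiplicity, M22Three.factorization_card]
    norm_num
  have hRb : (R : Subgroup Spor.M22) = Subgroup.zpowers b := by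
    symm
    apply Subgroup.eq_of_le_of_card_ge hR
    rw [hcard, Nat.card_zpowers, hb]
  -- the two commuting elements `S`, `S'` lie in a conjugate of it
  have hp1 : IsPGroup 3 (Subgroup.zpowers M22Three.S) := by
    rw [IsPGroup.iff_card]
    refine ⟨1, ?_⟩
    rw [Nat.card_zpowers, orderOf_eq_prime M22Three.S_cube M22Three.S_ne, pow_one]
  have hS'ne : M22Three.S' ≠ 1 := by
    intro h
    have := M22Three.pow_ne 0 1 (by decide)
    simp [h] at this
  have hp2 : IsPGroup 3 (Subgroup.zpowers M22Three.S') := by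
    rw [IsPGroup.iff_card]
    refine ⟨1, ?_⟩
    rw [Nat.card_zpowers, orderOf_eq_prime M22Three.S'_cube hS'ne, pow_one]
  have hn : Subgroup.zpowers M22Three.S ≤
      Subgroup.normalizer (Subgroup.zpowers M22Three.S' : Set Spor.M22) := by
    rw [Subgroup.zpowers_le]
    apply Subgroup.centralizer_le_normalizer
    rw [Subgroup.mem_centralizer_iff]
    intro y hy
    obtain ⟨k, rfl⟩ := Subgroup.mem_zpowers_iff.1 hy
    have c : Commute M22Three.S M22Three.S' := M22Three.S_comm
    exact (c.symm.zpow_left k).eq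
  obtain ⟨R', hR'⟩ := (hp1.to_sup_of_normal_right' hp2 hn).exists_le_sylow
  obtain ⟨g, hg⟩ := MulAction.exists_smul_eq Spor.M22 R' R
  have key : ∀ y ∈ (R' : Subgroup Spor.M22), y ^ 3 = 1 → ∃ n : ℕ, g * y * g⁻¹ = (b ^ 3) ^ n := by
    intro y hy hy3
    have h1 : g * y * g⁻¹ ∈ (R : Subgroup Spor.M22) := by
      rw [← hg]
      exact ⟨y, hy, rfl⟩
    rw [hRb] at h1
    obtain ⟨n, hn⟩ := (isOfFinOrder_of_finite b).mem_powers_iff_mem_zpowers.2 h1
    have hn' : b ^ n = g * y * g⁻¹ := hn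
    have h2 : b ^ (3 * n) = 1 := by
      rw [mul_comm, pow_mul, hn', conj_pow, hy3]
      group
    have h3 := orderOf_dvd_of_pow_eq_one h2
    rw [hb] at h3
    obtain ⟨m, hm⟩ : 3 ∣ n := by omega
    refine ⟨m, ?_⟩
    rw [← hn', hm, pow_mul]
  have hSR : M22Three.S ∈ (R' : Subgroup Spor.M22) :=
    hR' ((le_sup_left : Subgroup.zpowers M22Three.S ≤ _) (Subgroup.mem_zpowers _))
  have hSR' : M22Three.S' ∈ (R' : Subgroup Spor.M22) :=
    hR' ((le_sup_right : Subgroup.zpowers M22Three.S' ≤ _) (Subgroup.mem_zpowers _))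
  obtain ⟨m, hm⟩ := key _ hSR M22Three.S_cube
  obtain ⟨n, hn⟩ := key _ hSR' M22Three.S'_cube
  have hb9 : (b ^ 3) ^ 3 = 1 := by
    rw [← pow_mul]
    have h9 := pow_orderOf_eq_one b
    rw [hb] at h9
    exact h9
  -- the nine elements `S ^ i * S' ^ j` are conjugate to powers of `b ^ 3`: only three
  have hinj : Function.Injective (fun p : Fin 3 × Fin 3 =>
      (⟨(m * (p.1 : ℕ) + n * (p.2 : ℕ)) % 3, Nat.mod_lt _ (by norm_num)⟩ : Fin 3)) := by
    intro p q hpq
    apply M22Three.pow_injective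
    have h1 : (m * (p.1 : ℕ) + n * (p.2 : ℕ)) % 3 = (m * (q.1 : ℕ) + n * (q.2 : ℕ)) % 3 :=
      congrArg Fin.val hpq
    have h2 : ∀ r : Fin 3 × Fin 3, g * (M22Three.S ^ (r.1 : ℕ) * M22Three.S' ^ (r.2 : ℕ)) * g⁻¹ =
        (b ^ 3) ^ ((m * (r.1 : ℕ) + n * (r.2 : ℕ)) % 3) := by
      intro r
      have h3 : g * (M22Three.S ^ (r.1 : ℕ) * M22Three.S' ^ (r.2 : ℕ)) * g⁻¹ =
          (g * M22Three.S * g⁻¹) ^ (r.1 : ℕ) * (g * M22Three.S' * g⁻¹) ^ (r.2 : ℕ) := by
        rw [conj_pow, conj_pow]; group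
      rw [h3, hm, hn, ← pow_mul (b ^ 3), ← pow_mul (b ^ 3), ← pow_add]
      conv_lhs => rw [← Nat.mod_add_div (m * (r.1 : ℕ) + n * (r.2 : ℕ)) 3, pow_add, pow_mul, hb9,
        one_pow, mul_one]
    have h4 := h2 p
    rw [h1, ← h2 q] at h4
    have h5 := mul_left_cancel (mul_right_cancel h4)
    exact h5
  have := Fintype.card_le_of_injective _ hinj
  simp at this

/-! ### The central extension -/

/-- `C` is a perfect central extension of `M22` by a cyclic group of order 3 or 6, and `x` is a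
central element of order 3 -/
structure Ext {C : Type*} [Group C] (x : C) : Prop where
  ox : orderOf x = 3
  cent : x ∈ Subgroup.center C
  perf : commutator C = ⊤
  cyc : IsCyclic (Subgroup.center C)
  card : Nat.card (Subgroup.center C) = 3 ∨ Nat.card (Subgroup.center C) = 6
  quot : Nonempty (C ⧸ Subgroup.center C ≃* Spor.M22)

section

variable {C : Type*} [Group C] [Finite C] {x : C}

theorem Ext.cube (E : Ext x) : x ^ 3 = 1 := by rw [← E.ox]; exact pow_orderOf_eq_one x

theorem Ext.ne_one (E : Ext x) : x ≠ 1 := by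
  intro h
  have := E.ox
  rw [h, orderOf_one] at this
  omega

theorem Ext.card_C (E : Ext x) : Nat.card C = 443520 * Nat.card (Subgroup.center C) := by
  obtain ⟨e⟩ := E.quot
  rw [Subgroup.card_eq_card_quotient_mul_card_subgroup (Subgroup.center C), Nat.card_congr e.toEquiv,
    Cfsg.Agent.SporadicA.MathieuRecog.card_M22]

theorem Ext.factorization (E : Ext x) : (Nat.card C).factorization 3 = 3 := by
  have key : ∀ n : ℕ, n ≠ 0 → ¬ 3 ∣ n → (27 * n).factorization 3 = 3 := by
    intro n hn h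
    rw [show (27 : ℕ) = 3 ^ 3 by norm_num, Nat.factorization_mul (by norm_num) hn,
      Nat.Prime.factorization_pow Nat.prime_three]
    simp [Nat.factorization_eq_zero_of_not_dvd h]
  rw [E.card_C]
  rcases E.card with h | h <;> rw [h]
  · exact key 49280 (by norm_num) (by norm_num)
  · exact key 98560 (by norm_num) (by norm_num)

theorem Ext.card_sylow (E : Ext x) (T : Sylow 3 C) : Nat.card (T : Subgroup C) = 27 := by
  have : Fact (Nat.Prime 3) := ⟨Nat.prime_three⟩
  rw [T.card_eq_multiplicity, E.factorization]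
  norm_num

/-- a central element with trivial cube is a power of `x` -/
theorem Ext.mem_zpowers (E : Ext x) {z : C} (hz : z ∈ Subgroup.center C) (hz3 : z ^ 3 = 1) :
    z ∈ Subgroup.zpowers x := by
  have := E.cyc
  have h3 : Fact (Nat.Prime 3) := ⟨Nat.prime_three⟩
  -- the cyclic centre has at most 3 elements with trivial cube
  classical
  have : Fintype (Subgroup.center C) := Fintype.ofFinite _
  have h2 := IsCyclic.card_pow_eq_one_le (α := Subgroup.center C) (n := 3) (by norm_num)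
  have hsub : Finset.image (fun i : Fin 3 => (⟨x, E.cent⟩ : Subgroup.center C) ^ (i : ℕ)) Finset.univ ⊆
      Finset.univ.filter (fun a : Subgroup.center C => a ^ 3 = 1) := by
    intro y hy
    obtain ⟨i, -, rfl⟩ := Finset.mem_image.1 hy
    rw [Finset.mem_filter]
    refine ⟨Finset.mem_univ _, ?_⟩
    rw [← pow_mul, mul_comm, pow_mul]
    have h4 : (⟨x, E.cent⟩ : Subgroup.center C) ^ 3 = 1 := Subtype.ext E.cube
    rw [h4, one_pow]
  have hox : orderOf (⟨x, E.cent⟩ : Subgroup.center C) = 3 := by rw [Subgroup.orderOf_mk, E.ox]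
  have hcard : (Finset.image (fun i : Fin 3 => (⟨x, E.cent⟩ : Subgroup.center C) ^ (i : ℕ))
      Finset.univ).card = 3 := by
    rw [Finset.card_image_of_injective]
    · simp
    · intro i j hij
      apply Fin.ext
      have h5 := (pow_inj_mod (x := (⟨x, E.cent⟩ : Subgroup.center C))).1 hij
      rw [hox] at h5
      omega
  have heq := Finset.eq_of_subset_of_card_le hsub (by rw [hcard]; exact h2)
  have hzm : (⟨z, hz⟩ : Subgroup.center C) ∈
      Finset.image (fun i : Fin 3 => (⟨x, E.cent⟩ : Subgroup.center C) ^ (i : ℕ)) Finset.univ := by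
    rw [heq, Finset.mem_filter]
    exact ⟨Finset.mem_univ _, Subtype.ext hz3⟩
  obtain ⟨i, -, hi⟩ := Finset.mem_image.1 hzm
  have h1 : (⟨z, hz⟩ : Subgroup.center C) ∈ Subgroup.zpowers (⟨x, E.cent⟩ : Subgroup.center C) := by
    rw [← hi]; exact Subgroup.pow_mem _ (Subgroup.mem_zpowers _) _
  obtain ⟨k, hk⟩ := Subgroup.mem_zpowers_iff.1 h1
  exact Subgroup.mem_zpowers_iff.2 ⟨k, congrArg Subtype.val hk⟩

/-- a central 3-element is a power of `x` -/
theorem Ext.mem_zpowers' (E : Ext x) {z : C} (hz : z ∈ Subgroup.center C) {k : ℕ}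
    (hz3 : z ^ 3 ^ k = 1) : z ∈ Subgroup.zpowers x := by
  apply E.mem_zpowers hz
  have h6 : z ^ 6 = 1 := by
    have h1 : (⟨z, hz⟩ : Subgroup.center C) ^ Nat.card (Subgroup.center C) = 1 := pow_card_eq_one'
    have h2 : z ^ Nat.card (Subgroup.center C) = 1 := congrArg Subtype.val h1
    rcases E.card with h | h
    · rw [h] at h2
      rw [show 6 = 3 * 2 from rfl, pow_mul, h2, one_pow]
    · rw [h] at h2; exact h2
  have h1 : orderOf z ∣ 3 ^ k := orderOf_dvd_of_pow_eq_one hz3
  have h2 : orderOf z ∣ 6 := orderOf_dvd_of_pow_eq_one h6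
  apply orderOf_dvd_iff_pow_eq_one.1
  obtain ⟨j, -, hj⟩ := (Nat.dvd_prime_pow Nat.prime_three).1 h1
  rw [hj] at h2 ⊢
  have h3 : j < 2 := by
    by_contra hlt
    have h4 : 3 ^ 2 ∣ 3 ^ j := pow_dvd_pow 3 (by omega)
    have h5 := h4.trans h2
    omega
  calc 3 ^ j ∣ 3 ^ 1 := pow_dvd_pow 3 (by omega)
    _ = 3 := by norm_num

theorem Ext.x_mem (E : Ext x) (T : Sylow 3 C) : x ∈ (T : Subgroup C) := by
  have h3 : Fact (Nat.Prime 3) := ⟨Nat.prime_three⟩
  have hn : (Subgroup.zpowers x).Normal := by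
    constructor
    intro y hy g
    obtain ⟨k, rfl⟩ := Subgroup.mem_zpowers_iff.1 hy
    have hc : x ^ k ∈ Subgroup.center C := Subgroup.zpow_mem _ E.cent k
    rw [Subgroup.mem_center_iff] at hc
    rw [hc g, mul_inv_cancel_right]
    exact Subgroup.zpow_mem _ (Subgroup.mem_zpowers x) k
  have hp : IsPGroup 3 (Subgroup.zpowers x) := by
    rw [IsPGroup.iff_card]
    exact ⟨1, by rw [Nat.card_zpowers, E.ox, pow_one]⟩
  exact IsPGroup.le_sylow_of_normal hp T (Subgroup.mem_zpowers x)

theorem pow_27 {T : Sylow 3 C} (E : Ext x) {a : C} (ha : a ∈ (T : Subgroup C)) : a ^ 3 ^ 3 = 1 := by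
  have h1 : (⟨a, ha⟩ : (T : Subgroup C)) ^ Nat.card (T : Subgroup C) = 1 := pow_card_eq_one'
  rw [E.card_sylow T] at h1
  exact congrArg Subtype.val h1

/-- the Sylow 3-subgroups are not abelian -/
theorem Ext.not_comm (E : Ext x) (T : Sylow 3 C) : ¬ IsMulCommutative (T : Subgroup C) := by
  have h3 : Fact (Nat.Prime 3) := ⟨Nat.prime_three⟩
  intro h
  have h1 := Cfsg.Agent.S0088.result (T : Subgroup C) h (by
    rw [E.card_sylow T]
    have h2 : ¬ 3 ∣ (T : Subgroup C).index := T.not_dvd_index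
    have h4 : Nat.Coprime 3 (T : Subgroup C).index := (Nat.Prime.coprime_iff_not_dvd Nat.prime_three).2 h2
    rw [show (27 : ℕ) = 3 ^ 3 by norm_num]
    exact Nat.Coprime.pow_left 3 h4)
  have h2 : x ∈ (T : Subgroup C) ⊓ commutator C ⊓ Subgroup.center C :=
    ⟨⟨E.x_mem T, by rw [E.perf]; trivial⟩, E.cent⟩
  rw [h1] at h2
  exact E.ne_one (Subgroup.mem_bot.1 h2)

/-- commutators of `T` are powers of `x` -/
theorem Ext.comm_mem (E : Ext x) {T : Sylow 3 C} {a b : C} (ha : a ∈ (T : Subgroup C))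
    (hb : b ∈ (T : Subgroup C)) : a * b * a⁻¹ * b⁻¹ ∈ Subgroup.zpowers x := by
  have h3 : Fact (Nat.Prime 3) := ⟨Nat.prime_three⟩
  -- the image of `T` in `C / Z(C)` has order 9
  have hT : (a * b * a⁻¹ * b⁻¹) ∈ (T : Subgroup C) :=
    mul_mem (mul_mem (mul_mem ha hb) (inv_mem ha)) (inv_mem hb)
  refine E.mem_zpowers' (k := 3) ?_ (pow_27 E hT)
  let f := QuotientGroup.mk' (Subgroup.center C)
  have hker : Nat.card ((T : Subgroup C).map f) = 9 := by
    have h4 : (Subgroup.center C).subgroupOf (T : Subgroup C) = Subgroup.zpowers ⟨x, E.x_mem T⟩ := by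
      ext ⟨y, hy⟩
      rw [Subgroup.mem_subgroupOf]
      constructor
      · intro h
        obtain ⟨k, hk⟩ := Subgroup.mem_zpowers_iff.1 (E.mem_zpowers' h (pow_27 E hy))
        exact Subgroup.mem_zpowers_iff.2 ⟨k, Subtype.ext hk⟩
      · intro h
        obtain ⟨k, hk⟩ := Subgroup.mem_zpowers_iff.1 h
        have : x ^ k = y := congrArg Subtype.val hk
        show y ∈ Subgroup.center C
        rw [← this]
        exact Subgroup.zpow_mem _ E.cent k
    have h5 : Nat.card ((T : Subgroup C).map f) * Nat.card ((Subgroup.center C).subgroupOf (T : Subgroup C)) =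
        Nat.card (T : Subgroup C) := by
      let φ : (T : Subgroup C) →* (C ⧸ Subgroup.center C) := f.comp (T : Subgroup C).subtype
      have h6 : φ.ker = (Subgroup.center C).subgroupOf (T : Subgroup C) := by
        ext y
        rw [MonoidHom.mem_ker, Subgroup.mem_subgroupOf]
        exact QuotientGroup.eq_one_iff _
      have h7 : φ.range = (T : Subgroup C).map f := by
        rw [MonoidHom.range_comp, Subgroup.range_subtype]
      rw [← h6, ← h7, Subgroup.card_eq_card_quotient_mul_card_subgroup φ.ker,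
        Nat.card_congr (QuotientGroup.quotientKerEquivRange φ).toEquiv]
    rw [h4, Nat.card_zpowers, Subgroup.orderOf_mk, E.ox, E.card_sylow T] at h5
    omega
  have hcomm := IsPGroup.commutative_of_card_eq_prime_sq (G := (T : Subgroup C).map f) (p := 3)
    (by rw [hker]; norm_num)
  have h4 : f a * f b = f b * f a :=
    congrArg Subtype.val (hcomm ⟨f a, ⟨a, ha, rfl⟩⟩ ⟨f b, ⟨b, hb, rfl⟩⟩)
  rw [← QuotientGroup.eq_one_iff]
  show f (a * b * a⁻¹ * b⁻¹) = 1
  rw [map_mul, map_mul, map_mul, h4, map_inv, map_inv]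
  group

/-- the centre of `T` is `⟨x⟩` -/
theorem Ext.center (E : Ext x) {T : Sylow 3 C} {a : C} (ha : a ∈ (T : Subgroup C))
    (hc : ∀ b ∈ (T : Subgroup C), a * b = b * a) : a ∈ Subgroup.zpowers x := by
  have h3 : Fact (Nat.Prime 3) := ⟨Nat.prime_three⟩
  by_contra hax
  apply E.not_comm T
  -- the centre has order at least 9, so the quotient is cyclic
  have hxc : (⟨x, E.x_mem T⟩ : (T : Subgroup C)) ∈ Subgroup.center (T : Subgroup C) := by
    rw [Subgroup.mem_center_iff]
    intro y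
    exact Subtype.ext (Subgroup.mem_center_iff.1 E.cent y)
  have hac : (⟨a, ha⟩ : (T : Subgroup C)) ∈ Subgroup.center (T : Subgroup C) := by
    rw [Subgroup.mem_center_iff]
    intro y
    exact Subtype.ext (hc y y.2).symm
  have h4 : Nat.card (Subgroup.center (T : Subgroup C)) ∣ 3 ^ 3 := by
    have := Subgroup.card_subgroup_dvd_card (Subgroup.center (T : Subgroup C))
    rw [E.card_sylow T] at this
    exact this
  obtain ⟨j, hj3, hj⟩ := (Nat.dvd_prime_pow Nat.prime_three).1 h4
  have hj2 : 2 ≤ j := by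
    by_contra hlt
    have h5 : Nat.card (Subgroup.center (T : Subgroup C)) ≤ 3 := by
      rw [hj]
      calc 3 ^ j ≤ 3 ^ 1 := Nat.pow_le_pow_right (by norm_num) (by omega)
        _ = 3 := by norm_num
    have h6 : Subgroup.zpowers (⟨x, E.x_mem T⟩ : (T : Subgroup C)) = Subgroup.center (T : Subgroup C) := by
      apply Subgroup.eq_of_le_of_card_ge
      · rw [Subgroup.zpowers_le]; exact hxc
      · rw [Nat.card_zpowers, Subgroup.orderOf_mk, E.ox]; exact h5
    rw [← h6] at hac
    obtain ⟨k, hk⟩ := Subgroup.mem_zpowers_iff.1 hac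
    exact hax (Subgroup.mem_zpowers_iff.2 ⟨k, congrArg Subtype.val hk⟩)
  have hq : Nat.card ((T : Subgroup C) ⧸ Subgroup.center (T : Subgroup C)) ∣ 3 := by
    have h5 := Subgroup.card_eq_card_quotient_mul_card_subgroup (Subgroup.center (T : Subgroup C))
    rw [E.card_sylow T, hj] at h5
    obtain ⟨i, rfl⟩ : ∃ i, j = i + 2 := ⟨j - 2, by omega⟩
    have hi : i < 2 := by omega
    interval_cases i
    · simp at h5; exact ⟨1, by omega⟩
    · simp only [_root_.Nat.reduceAdd, _root_.Nat.reducePow, _root_.ne_eq, _root_.OfNat.ofNat_ne_zero, _root_.not_false_eq_true, _root_.right_eq_mul₀] at h5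
      have : Nat.card ((T : Subgroup C) ⧸ Subgroup.center (T : Subgroup C)) = 1 := by omega
      rw [this]; exact one_dvd _
  have hcyc : IsCyclic ((T : Subgroup C) ⧸ Subgroup.center (T : Subgroup C)) := by
    rcases (Nat.dvd_prime Nat.prime_three).1 hq with h | h
    · have := (Nat.card_eq_one_iff_unique.1 h).1
      exact isCyclic_of_subsingleton
    · exact isCyclic_of_prime_card h
  exact ⟨⟨fun u v => commutative_of_cyclic_center_quotient
    (QuotientGroup.mk' (Subgroup.center (T : Subgroup C))) (by simp) u v⟩⟩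

/-- the elements of `T` outside `⟨x⟩` are conjugate in `T` to their products with powers of `x` -/
theorem Ext.conj_mul (E : Ext x) {T : Sylow 3 C} {b : C} (hb : b ∈ (T : Subgroup C))
    (hbx : b ∉ Subgroup.zpowers x) {z : C} (hz : z ∈ Subgroup.zpowers x) : IsConj b (b * z) := by
  have h3 : Fact (Nat.Prime 3) := ⟨Nat.prime_three⟩
  have : ∃ c ∈ (T : Subgroup C), c * b ≠ b * c := by
    by_contra h
    push Not at h
    exact hbx (E.center hb (fun c hc => (h c hc).symm))
  obtain ⟨c, hc, hcb⟩ := this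
  have h4 : b⁻¹ * (c * b * c⁻¹) ∈ Subgroup.zpowers x := by
    have h5 := E.comm_mem (inv_mem hb) hc
    have h6 : b⁻¹ * c * b⁻¹⁻¹ * c⁻¹ = b⁻¹ * (c * b * c⁻¹) := by group
    rwa [h6] at h5
  set w := b⁻¹ * (c * b * c⁻¹) with hw
  have hw1 : w ≠ 1 := by
    intro h
    apply hcb
    rw [hw, inv_mul_eq_one, eq_mul_inv_iff_mul_eq] at h
    exact h.symm
  have hwc : w ∈ Subgroup.center C := by
    obtain ⟨k, hk⟩ := Subgroup.mem_zpowers_iff.1 h4
    rw [← hk]; exact Subgroup.zpow_mem _ E.cent k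
  have hcomm : ∀ y, y * w = w * y := Subgroup.mem_center_iff.1 hwc
  -- `c ^ n * b * c ^ (-n) = b * w ^ n`
  have hn : ∀ n : ℕ, c ^ n * b * (c ^ n)⁻¹ = b * w ^ n := by
    intro n
    induction n with
    | zero => simp
    | succ n ih =>
      have h5 : c * b * c⁻¹ = b * w := by rw [hw]; group
      calc c ^ (n + 1) * b * (c ^ (n + 1))⁻¹ = c * (c ^ n * b * (c ^ n)⁻¹) * c⁻¹ := by
            rw [pow_succ']; group
        _ = c * (b * w ^ n) * c⁻¹ := by rw [ih]
        _ = c * b * c⁻¹ * (c * w ^ n * c⁻¹) := by group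
        _ = b * w * w ^ n := by
            have h6 : c * w ^ n = w ^ n * c := (Commute.pow_right (hcomm c) n).eq
            rw [h5, h6, mul_inv_cancel_right]
        _ = b * w ^ (n + 1) := by rw [pow_succ', mul_assoc]
  have hzw : z ∈ Subgroup.zpowers w := by
    have h5 : Subgroup.zpowers w = Subgroup.zpowers x := by
      apply Subgroup.eq_of_le_of_card_ge
      · rw [Subgroup.zpowers_le]; exact h4
      · rw [Nat.card_zpowers, E.ox, Nat.card_zpowers]
        have h6 : w ^ 3 = 1 := by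
          obtain ⟨k, hk⟩ := Subgroup.mem_zpowers_iff.1 h4
          rw [← hk, ← zpow_natCast, ← zpow_mul, mul_comm, zpow_mul, zpow_natCast, E.cube, one_zpow]
        rw [orderOf_eq_prime h6 hw1]
    rw [h5]; exact hz
  obtain ⟨n, hn'⟩ := (isOfFinOrder_of_finite w).mem_powers_iff_mem_zpowers.2 hzw
  have hn'' : w ^ n = z := hn'
  rw [isConj_iff]
  exact ⟨c ^ n, by rw [hn n, hn'']⟩

/-- all elements of `T` outside `⟨x⟩` are conjugate -/
theorem Ext.isConj (E : Ext x) {T : Sylow 3 C} {a b : C} (ha : a ∈ (T : Subgroup C))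
    (hb : b ∈ (T : Subgroup C)) (hax : a ∉ Subgroup.zpowers x) (hbx : b ∉ Subgroup.zpowers x) :
    IsConj a b := by
  have h3 : Fact (Nat.Prime 3) := ⟨Nat.prime_three⟩
  obtain ⟨e⟩ := E.quot
  let f : C →* Spor.M22 := e.toMonoidHom.comp (QuotientGroup.mk' (Subgroup.center C))
  have hf : ∀ c, f c = 1 ↔ c ∈ Subgroup.center C := by
    intro c
    show e (QuotientGroup.mk' _ c) = 1 ↔ _
    rw [map_eq_one_iff e e.injective]
    exact QuotientGroup.eq_one_iff c
  have hfs : Function.Surjective f := e.surjective.comp (QuotientGroup.mk'_surjective _)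
  have key : ∀ c ∈ (T : Subgroup C), c ∉ Subgroup.zpowers x → orderOf (f c) = 3 := by
    intro c hc hcx
    apply orderOf_eq_prime
    · apply M22_cube (k := 3)
      rw [← map_pow, pow_27 E hc, map_one]
    · intro h
      exact hcx (E.mem_zpowers' ((hf c).1 h) (pow_27 E hc))
  have hc := M22Three.isConj_three (key a ha hax) (key b hb hbx)
  obtain ⟨g, hg⟩ := isConj_iff.1 hc
  obtain ⟨c, rfl⟩ := hfs g
  have h4 : b⁻¹ * (c * a * c⁻¹) ∈ Subgroup.center C := by
    rw [← hf, map_mul, map_mul, map_mul, map_inv, map_inv, hg, inv_mul_cancel]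
  set z := b⁻¹ * (c * a * c⁻¹) with hz
  have hbz : b * z = c * a * c⁻¹ := by rw [hz]; group
  have hcz : Commute b z := Subgroup.mem_center_iff.1 h4 b
  have h5 : z ^ 3 ^ 3 = 1 := by
    have h6 : (b * z) ^ 3 ^ 3 = 1 := by rw [hbz, conj_pow, pow_27 E ha]; group
    rw [hcz.mul_pow, pow_27 E hb, one_mul] at h6
    exact h6
  have h6 := E.conj_mul hb hbx (E.mem_zpowers' h4 h5)
  rw [hbz] at h6
  have h7 : IsConj a (c * a * c⁻¹) := isConj_iff.2 ⟨c, rfl⟩
  exact h7.trans h6.symm

end

end Cfsg.Agent.H337.ThreeCent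
end

-- part: H337/ThreeGroup
section
/-!
# Groups with an element of order 3 whose centraliser is a perfect central extension of `M22`
-/

set_option autoImplicit false

namespace Cfsg.Agent.H337.ThreeGroup

open Cfsg Cfsg.Agent.H337.ThreeCent
open scoped Pointwise

variable {G : Type*} [Group G] {x : G}

/-- `x` as an element of its centralizer -/
def xC (x : G) : Subgroup.centralizer ({x} : Set G) := ⟨x, Subgroup.mem_centralizer_singleton_iff.2 rfl⟩

theorem xC_mem_center (x : G) : xC x ∈ Subgroup.center (Subgroup.centralizer ({x} : Set G)) := by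
  rw [Subgroup.mem_center_iff]
  intro y
  exact Subtype.ext (Subgroup.mem_centralizer_singleton_iff.1 y.2)

/-- the Sylow subgroup of the centralizer in the group -/
abbrev T0 (T : Sylow 3 (Subgroup.centralizer ({x} : Set G))) : Subgroup G :=
  (T : Subgroup (Subgroup.centralizer ({x} : Set G))).map (Subgroup.centralizer ({x} : Set G)).subtype

theorem mem_T0 {T : Sylow 3 (Subgroup.centralizer ({x} : Set G))} {y : G} :
    y ∈ T0 T ↔ ∃ h : y ∈ Subgroup.centralizer ({x} : Set G),
      (⟨y, h⟩ : Subgroup.centralizer ({x} : Set G)) ∈ (T : Subgroup (Subgroup.centralizer ({x} : Set G))) := by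
  constructor
  · rintro ⟨z, hz, rfl⟩
    exact ⟨z.2, hz⟩
  · rintro ⟨h, hz⟩
    exact ⟨_, hz, rfl⟩

theorem mem_zpowers_coe {y : Subgroup.centralizer ({x} : Set G)} :
    y ∈ Subgroup.zpowers (xC x) ↔ (y : G) ∈ Subgroup.zpowers x := by
  constructor
  · intro h
    obtain ⟨k, rfl⟩ := Subgroup.mem_zpowers_iff.1 h
    exact Subgroup.mem_zpowers_iff.2 ⟨k, by simp [xC]⟩
  · intro h
    obtain ⟨k, hk⟩ := Subgroup.mem_zpowers_iff.1 h
    exact Subgroup.mem_zpowers_iff.2 ⟨k, Subtype.ext (by simpa [xC] using hk)⟩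

theorem zpow_cases (h3 : x ^ 3 = 1) {y : G} (hy : y ∈ Subgroup.zpowers x) : y = 1 ∨ y = x ∨ y = x⁻¹ := by
  obtain ⟨k, rfl⟩ := Subgroup.mem_zpowers_iff.1 hy
  have h5 : x ^ k = x ^ (k % 3) := by
    conv_lhs => rw [← Int.emod_add_mul_ediv k 3, zpow_add, zpow_mul]
    rw [show x ^ (3 : ℤ) = 1 by exact_mod_cast h3, one_zpow, mul_one]
  rw [h5]
  have h6 : 0 ≤ k % 3 := Int.emod_nonneg _ (by norm_num)
  have h7 : k % 3 < 3 := Int.emod_lt_of_pos _ (by norm_num)
  interval_cases h : k % 3
  · left; rw [zpow_zero]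
  · right; left; rw [zpow_one]
  · right; right
    rw [eq_inv_iff_mul_eq_one, ← zpow_add_one]
    exact_mod_cast h3

section

variable [Finite G]

theorem ox (E : _root_.Cfsg.Agent.H337.ThreeCent.Ext (xC x)) : orderOf x = 3 := by
  rw [← E.ox]; exact (Subgroup.orderOf_mk x _).symm

theorem cube (E : _root_.Cfsg.Agent.H337.ThreeCent.Ext (xC x)) : x ^ 3 = 1 := by rw [← ox E]; exact pow_orderOf_eq_one x

theorem ne_one (E : _root_.Cfsg.Agent.H337.ThreeCent.Ext (xC x)) : x ≠ 1 := by
  intro h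
  have := ox E
  rw [h, orderOf_one] at this
  omega

theorem ne_inv (E : _root_.Cfsg.Agent.H337.ThreeCent.Ext (xC x)) : x ≠ x⁻¹ := by
  intro h
  have h1 : x * x = 1 := by
    conv_lhs => lhs; rw [h]
    exact inv_mul_cancel x
  have h2 := cube E
  rw [pow_succ, pow_two, h1, one_mul] at h2
  exact ne_one E h2

/-- an element of `T0` commuting with `T0` is a power of `x` -/
theorem mem_of_comm (E : _root_.Cfsg.Agent.H337.ThreeCent.Ext (xC x)) {T : Sylow 3 (Subgroup.centralizer ({x} : Set G))} {y : G}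
    (hy : y ∈ T0 T) (hc : ∀ z ∈ T0 T, y * z = z * y) : y ∈ Subgroup.zpowers x := by
  obtain ⟨h, hT⟩ := mem_T0.1 hy
  have h1 := E.center hT (fun b hb => Subtype.ext (hc b ⟨b, hb, rfl⟩))
  exact mem_zpowers_coe.1 h1

theorem x_mem_T0 (E : _root_.Cfsg.Agent.H337.ThreeCent.Ext (xC x)) (T : Sylow 3 (Subgroup.centralizer ({x} : Set G))) : x ∈ T0 T :=
  mem_T0.2 ⟨_, E.x_mem T⟩

theorem comm_x {T : Sylow 3 (Subgroup.centralizer ({x} : Set G))} {y : G} (hy : y ∈ T0 T) :
    y * x = x * y := by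
  obtain ⟨h, -⟩ := mem_T0.1 hy
  exact Subgroup.mem_centralizer_singleton_iff.1 h

/-- an element normalizing `T0` maps `x` to `x` or `x⁻¹` -/
theorem conj_x (E : _root_.Cfsg.Agent.H337.ThreeCent.Ext (xC x)) {T : Sylow 3 (Subgroup.centralizer ({x} : Set G))} {n : G}
    (hn : ∀ y, y ∈ T0 T ↔ n * y * n⁻¹ ∈ T0 T) : n * x * n⁻¹ = x ∨ n * x * n⁻¹ = x⁻¹ := by
  have h1 : n * x * n⁻¹ ∈ Subgroup.zpowers x := by
    apply mem_of_comm E ((hn x).1 (x_mem_T0 E T))
    intro z hz
    have h2 : n⁻¹ * z * n ∈ T0 T := by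
      rw [hn]
      have : n * (n⁻¹ * z * n) * n⁻¹ = z := by group
      rw [this]; exact hz
    have h3 := comm_x h2
    calc n * x * n⁻¹ * z = n * (x * (n⁻¹ * z * n)) * n⁻¹ := by group
      _ = n * ((n⁻¹ * z * n) * x) * n⁻¹ := by rw [h3]
      _ = z * (n * x * n⁻¹) := by group
  rcases zpow_cases (cube E) h1 with h | h | h
  · exfalso
    apply ne_one E
    rw [mul_inv_eq_one, mul_eq_left] at h
    exact h
  · exact Or.inl h
  · exact Or.inr h

/-- the Sylow 3-subgroups of the centralizer are Sylow subgroups of the group -/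
theorem exists_sylow (E : _root_.Cfsg.Agent.H337.ThreeCent.Ext (xC x)) (T : Sylow 3 (Subgroup.centralizer ({x} : Set G))) :
    ∃ S : Sylow 3 G, (S : Subgroup G) = T0 T := by
  have h3 : Fact (Nat.Prime 3) := ⟨Nat.prime_three⟩
  have hp : IsPGroup 3 (T0 T) := T.isPGroup'.map _
  obtain ⟨S, hS⟩ := hp.exists_le_sylow
  refine ⟨S, ?_⟩
  -- `S ∩ C = T0`
  have hSC : ∀ n ∈ (S : Subgroup G), n * x = x * n → n ∈ T0 T := by
    intro n hn hnx
    have h4 : (T : Subgroup (Subgroup.centralizer ({x} : Set G))) ≤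
        (S : Subgroup G).subgroupOf (Subgroup.centralizer ({x} : Set G)) := by
      intro y hy
      exact hS ⟨y, hy, rfl⟩
    have h5 : IsPGroup 3 ((S : Subgroup G).subgroupOf (Subgroup.centralizer ({x} : Set G))) :=
      S.isPGroup'.comap_subtype
    have h6 := T.is_maximal' h5 h4
    refine mem_T0.2 ⟨Subgroup.mem_centralizer_singleton_iff.2 hnx, ?_⟩
    have h7 : (⟨n, Subgroup.mem_centralizer_singleton_iff.2 hnx⟩ : Subgroup.centralizer ({x} : Set G)) ∈
        (S : Subgroup G).subgroupOf (Subgroup.centralizer ({x} : Set G)) := hn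
    rw [h6] at h7
    exact h7
  by_contra hne
  have hlt : T0 T < (S : Subgroup G) := lt_of_le_of_ne hS (fun h => hne h.symm)
  have hnil : Group.IsNilpotent (S : Subgroup G) := S.isPGroup'.isNilpotent
  have hlt' : (T0 T).subgroupOf (S : Subgroup G) < ⊤ := by
    rw [lt_top_iff_ne_top, Ne, Subgroup.subgroupOf_eq_top]
    exact not_le_of_gt hlt
  have hnc := Group.normalizerCondition_of_isNilpotent (G := (S : Subgroup G)) _ hlt'
  obtain ⟨⟨n, hnS⟩, hn1, hn2⟩ := SetLike.exists_of_lt hnc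
  apply hn2
  rw [Subgroup.mem_subgroupOf]
  apply hSC n hnS
  have hnorm : ∀ y, y ∈ T0 T ↔ n * y * n⁻¹ ∈ T0 T := by
    intro y
    have h4 := Subgroup.mem_normalizer_iff.1 hn1
    constructor
    · intro hy
      exact (h4 ⟨y, hS hy⟩).1 hy
    · intro hy
      have hyS : y ∈ (S : Subgroup G) := by
        have h5 := mul_mem (mul_mem (inv_mem hnS) (hS hy)) hnS
        have h6 : n⁻¹ * (n * y * n⁻¹) * n = y := by group
        rwa [h6] at h5
      exact (h4 ⟨y, hyS⟩).2 hy
  rcases conj_x E hnorm with h | h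
  · exact mul_inv_eq_iff_eq_mul.1 h
  · -- `n` has odd order and `n ^ 2` commutes with `x`
    exfalso
    have h4 : Commute (n ^ 2) x := by
      show n ^ 2 * x = x * n ^ 2
      have h5 : n * x = x⁻¹ * n := mul_inv_eq_iff_eq_mul.1 h
      have h6 : n * x⁻¹ = x * n := by
        have h7 : n * x⁻¹ * n⁻¹ = x := by
          have := congrArg (·⁻¹) h
          simpa only [mul_assoc, _root_.mul_inv_rev, _root_.inv_inv] using this
        exact mul_inv_eq_iff_eq_mul.1 h7
      calc n ^ 2 * x = n * (n * x) := by rw [pow_two, mul_assoc]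
        _ = n * x⁻¹ * n := by rw [h5, ← mul_assoc]
        _ = x * n ^ 2 := by rw [h6, pow_two, mul_assoc]
    obtain ⟨k, hk⟩ : ∃ k, n ^ 3 ^ k = 1 := by
      obtain ⟨k, hk⟩ := S.isPGroup' ⟨n, hnS⟩
      exact ⟨k, congrArg Subtype.val hk⟩
    have hodd : Odd (3 ^ k) := Odd.pow (by decide)
    obtain ⟨j, hj⟩ := hodd
    have h5 : n = (n ^ 2) ^ (j + 1) := by
      rw [← pow_mul, show 2 * (j + 1) = 3 ^ k + 1 by omega, pow_succ, hk, one_mul]
    have h6 : Commute n x := by rw [h5]; exact h4.pow_left _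
    have h7 : n * x * n⁻¹ = x := by rw [h6.eq, mul_inv_cancel_right]
    exact ne_inv E (h7.symm.trans h)

/-- fusion: if an element of `T0` outside `⟨x⟩` is conjugate to `x`, then there is one class of
elements of order 3 -/
theorem fus_of (E : _root_.Cfsg.Agent.H337.ThreeCent.Ext (xC x)) {T : Sylow 3 (Subgroup.centralizer ({x} : Set G))} {y : G}
    (hy : y ∈ T0 T) (hyx : y ∉ Subgroup.zpowers x) (hc : IsConj x y) {u : G} (hu : orderOf u = 3) :
    IsConj x u := by
  have h3 : Fact (Nat.Prime 3) := ⟨Nat.prime_three⟩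
  -- conjugacy in `T0`
  have key : ∀ a b : G, a ∈ T0 T → b ∈ T0 T → a ∉ Subgroup.zpowers x → b ∉ Subgroup.zpowers x →
      IsConj a b := by
    intro a b ha hb hax hbx
    obtain ⟨ha1, ha2⟩ := mem_T0.1 ha
    obtain ⟨hb1, hb2⟩ := mem_T0.1 hb
    have h4 := E.isConj ha2 hb2 (fun h => hax (mem_zpowers_coe.1 h)) (fun h => hbx (mem_zpowers_coe.1 h))
    obtain ⟨c, hc⟩ := isConj_iff.1 h4
    exact isConj_iff.2 ⟨c, congrArg Subtype.val hc⟩
  obtain ⟨S, hS⟩ := exists_sylow E T
  have hp : IsPGroup 3 (Subgroup.zpowers u) := by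
    rw [IsPGroup.iff_card]
    exact ⟨1, by rw [Nat.card_zpowers, hu, pow_one]⟩
  obtain ⟨R, hR⟩ := hp.exists_le_sylow
  obtain ⟨g, hg⟩ := MulAction.exists_smul_eq G R S
  have h1 : g * u * g⁻¹ ∈ T0 T := by
    rw [← hS, ← hg]
    exact ⟨u, hR (Subgroup.mem_zpowers _), rfl⟩
  have hug : IsConj (g * u * g⁻¹) u := (isConj_iff.2 ⟨g, rfl⟩ : IsConj u (g * u * g⁻¹)).symm
  refine IsConj.trans ?_ hug
  have hinvc : ∀ a b : G, IsConj a b → IsConj a⁻¹ b⁻¹ := by
    intro a b hab
    obtain ⟨c, hc⟩ := isConj_iff.1 hab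
    refine isConj_iff.2 ⟨c, ?_⟩
    rw [← hc]; group
  by_cases h2 : g * u * g⁻¹ ∈ Subgroup.zpowers x
  · rcases zpow_cases (cube E) h2 with h | h | h
    · exfalso
      rw [mul_inv_eq_one, mul_eq_left] at h
      rw [h, orderOf_one] at hu
      omega
    · rw [h]
    · rw [h]
      have h4 : IsConj y y⁻¹ := key y y⁻¹ hy (inv_mem hy) hyx (fun h => hyx (by
        have := inv_mem h
        rwa [inv_inv] at this))
      exact hc.trans (h4.trans (hinvc _ _ hc.symm))
  · exact hc.trans (key _ _ hy h1 hyx h2)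

/-- the centre of a Sylow subgroup, as in the statements -/
theorem center_map (E : _root_.Cfsg.Agent.H337.ThreeCent.Ext (xC x)) (T : Sylow 3 (Subgroup.centralizer ({x} : Set G))) (S : Sylow 3 G)
    (h : G) (hS : ∀ y, y ∈ (S : Subgroup G) ↔ h⁻¹ * y * h ∈ T0 T) :
    (Subgroup.center ↥(S : Subgroup G)).map (S : Subgroup G).subtype = Subgroup.zpowers (h * x * h⁻¹) := by
  have hx : h * x * h⁻¹ ∈ (S : Subgroup G) := by
    rw [hS]
    have : h⁻¹ * (h * x * h⁻¹) * h = x := by group
    rw [this]; exact x_mem_T0 E T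
  apply le_antisymm
  · rintro _ ⟨y, hy, rfl⟩
    have h1 := (hS y).1 y.2
    have h2 : h⁻¹ * (y : G) * h ∈ Subgroup.zpowers x := by
      apply mem_of_comm E h1
      intro z hz
      have h3 : h * z * h⁻¹ ∈ (S : Subgroup G) := by
        rw [hS]
        have : h⁻¹ * (h * z * h⁻¹) * h = z := by group
        rw [this]; exact hz
      have h4 : (y : G) * (h * z * h⁻¹) = (h * z * h⁻¹) * y :=
        (congrArg Subtype.val (Subgroup.mem_center_iff.1 hy ⟨_, h3⟩)).symm
      calc h⁻¹ * (y : G) * h * z = h⁻¹ * ((y : G) * (h * z * h⁻¹)) * h := by group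
        _ = h⁻¹ * ((h * z * h⁻¹) * y) * h := by rw [h4]
        _ = z * (h⁻¹ * y * h) := by group
    obtain ⟨k, hk⟩ := Subgroup.mem_zpowers_iff.1 h2
    refine Subgroup.mem_zpowers_iff.2 ⟨k, ?_⟩
    rw [conj_zpow, hk]
    show h * (h⁻¹ * (y : G) * h) * h⁻¹ = y
    group
  · rw [Subgroup.zpowers_le]
    refine ⟨⟨h * x * h⁻¹, hx⟩, ?_, rfl⟩
    rw [SetLike.mem_coe, Subgroup.mem_center_iff]
    rintro ⟨y, hy⟩
    apply Subtype.ext
    show y * (h * x * h⁻¹) = h * x * h⁻¹ * y
    have h1 := comm_x ((hS y).1 hy)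
    calc y * (h * x * h⁻¹) = h * ((h⁻¹ * y * h) * x) * h⁻¹ := by group
      _ = h * (x * (h⁻¹ * y * h)) * h⁻¹ := by rw [h1]
      _ = h * x * h⁻¹ * y := by group

/-- **One class of elements of order 3**, from the failure of 3-normality. -/
theorem fus (E : _root_.Cfsg.Agent.H337.ThreeCent.Ext (xC x)) (S : Sylow 3 G) (g : G)
    (hng : ((Subgroup.center ↥(S : Subgroup G)).map (S : Subgroup G).subtype).map
      (MulAut.conj g).toMonoidHom ≤ (S : Subgroup G))
    (hne : ((Subgroup.center ↥(S : Subgroup G)).map (S : Subgroup G).subtype).map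
      (MulAut.conj g).toMonoidHom ≠ ((Subgroup.center ↥(S : Subgroup G)).map (S : Subgroup G).subtype))
    {u : G} (hu : orderOf u = 3) : IsConj x u := by
  have h3 : Fact (Nat.Prime 3) := ⟨Nat.prime_three⟩
  obtain ⟨T⟩ : Nonempty (Sylow 3 (Subgroup.centralizer ({x} : Set G))) := inferInstance
  obtain ⟨S0, hS0⟩ := exists_sylow E T
  obtain ⟨h, hh⟩ := MulAction.exists_smul_eq G S0 S
  have hS : ∀ y, y ∈ (S : Subgroup G) ↔ h⁻¹ * y * h ∈ T0 T := by
    intro y
    rw [← hS0, ← hh]
    constructor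
    · rintro ⟨z, hz, rfl⟩
      show h⁻¹ * (h * z * h⁻¹) * h ∈ (S0 : Subgroup G)
      have : h⁻¹ * (h * z * h⁻¹) * h = z := by group
      rw [this]; exact hz
    · intro hz
      refine ⟨_, hz, ?_⟩
      show h * (h⁻¹ * y * h) * h⁻¹ = y
      group
  rw [center_map E T S h hS] at hng hne
  set x' := h * x * h⁻¹ with hx'
  have hmap : (Subgroup.zpowers x').map (MulAut.conj g).toMonoidHom = Subgroup.zpowers (g * x' * g⁻¹) := by
    rw [MonoidHom.map_zpowers]; rfl
  rw [hmap] at hng hne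
  have hy1 : g * x' * g⁻¹ ∈ (S : Subgroup G) := hng (Subgroup.mem_zpowers _)
  have hy2 := (hS _).1 hy1
  set y := h⁻¹ * (g * x' * g⁻¹) * h with hy
  have hord : orderOf (g * x' * g⁻¹) = 3 := by
    have h4 : g * x' * g⁻¹ = MulAut.conj (g * h) x := by
      rw [hx', MulAut.conj_apply]; group
    rw [h4, MulEquiv.orderOf_eq, ox E]
  have hyx : y ∉ Subgroup.zpowers x := by
    intro hyx
    apply hne
    apply Subgroup.eq_of_le_of_card_ge
    · rw [Subgroup.zpowers_le]
      obtain ⟨k, hk⟩ := Subgroup.mem_zpowers_iff.1 hyx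
      refine Subgroup.mem_zpowers_iff.2 ⟨k, ?_⟩
      have h6 : x' ^ k = h * y * h⁻¹ := by rw [hx', conj_zpow, hk]
      have h7 : h * y * h⁻¹ = g * x' * g⁻¹ := by rw [hy]; group
      rw [h6, h7]
    · rw [Nat.card_zpowers, Nat.card_zpowers, hord]
      have h4 : x' = MulAut.conj h x := by rw [hx', MulAut.conj_apply]
      rw [h4, MulEquiv.orderOf_eq, ox E]
  have hc : IsConj x y := isConj_iff.2 ⟨h⁻¹ * g * h, by rw [hy, hx']; group⟩
  exact fus_of E hy2 hyx hc hu

end

end Cfsg.Agent.H337.ThreeGroup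
end

-- part: H337/OrdElimNum
section
/-!
# Numerical lemmas for the elimination of the known simple groups by `27 ∥ |S|`
-/

set_option autoImplicit false

namespace Cfsg.Agent.H337.OrdElim

theorem nd_mul {u v : ℕ} (hu : ¬ 3 ∣ u) (hv : ¬ 3 ∣ v) : ¬ 3 ∣ u * v := Nat.prime_three.not_dvd_mul hu hv

theorem nd_pow {u k : ℕ} (hu : ¬ 3 ∣ u) : ¬ 3 ∣ u ^ k := fun h => hu (Nat.prime_three.dvd_of_dvd_pow h)

theorem cop {c : ℕ} (k : ℕ) (h : ¬ 3 ∣ c) : Nat.Coprime (3 ^ k) c :=
  Nat.Coprime.pow_left k ((Nat.Prime.coprime_iff_not_dvd Nat.prime_three).2 h)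

/-- cancel a factor prime to 3 -/
theorem cancel {c N : ℕ} (k : ℕ) (hc : ¬ 3 ∣ c) (h : 3 ^ k ∣ c * N) : 3 ^ k ∣ N :=
  (cop k hc).dvd_of_dvd_mul_left h

theorem sq81 {a : ℕ} (h : 3 ^ 3 ∣ a * a) : 3 ^ 4 ∣ a * a := by
  have h3 : 3 ∣ a := by
    have h1 : 3 ∣ a * a := (dvd_pow_self 3 (by norm_num)).trans h
    rcases (Nat.prime_three.dvd_mul).1 h1 with h | h <;> exact h
  obtain ⟨b, rfl⟩ := h3
  have h4 : 3 ∣ b * b := by
    obtain ⟨w, hw⟩ := h
    refine ⟨w, ?_⟩
    have : 9 * (b * b) = 9 * (3 * w) := by linarith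
    exact Nat.eq_of_mul_eq_mul_left (by norm_num) this
  have h5 : 3 ∣ b := by rcases (Nat.prime_three.dvd_mul).1 h4 with h | h <;> exact h
  obtain ⟨d, rfl⟩ := h5
  exact ⟨d * d, by ring⟩

/-- the exponent of 3 is even: `27 ∣ N` implies `81 ∣ N` -/
theorem even81 {c N u a : ℕ} (hc : ¬ 3 ∣ c) (hu : ¬ 3 ∣ u) (h : c * N = u * (a * a)) (h27 : 3 ^ 3 ∣ N) :
    3 ^ 4 ∣ N := by
  apply cancel 4 hc
  rw [h]
  apply Dvd.dvd.mul_left
  apply sq81
  apply cancel 3 hu
  rw [← h]
  exact Dvd.dvd.mul_left h27 _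

section

variable {q : ℕ}

theorem pow_mod_three_one (h : q % 3 = 1) (k : ℕ) : q ^ k % 3 = 1 := by
  rw [Nat.pow_mod, h, one_pow]
  norm_num

theorem sub_dvd {k m : ℕ} (h : q ^ k % m = 1 % m) (hq : 0 < q) : m ∣ q ^ k - 1 :=
  (Nat.modEq_iff_dvd' (Nat.one_le_pow _ _ hq)).1 (Eq.symm h)

theorem six_mod (h : q % 3 ≠ 0) : q ^ 6 % 9 = 1 := by
  rw [Nat.pow_mod]
  have h1 : q % 9 < 9 := Nat.mod_lt _ (by norm_num)
  have h2 : q % 9 % 3 ≠ 0 := by omega
  interval_cases h : q % 9 <;> simp_all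

theorem sq_mod (h : q % 3 ≠ 0) : q ^ 2 % 3 = 1 := by
  rw [Nat.pow_mod]
  have h1 : q % 3 < 3 := Nat.mod_lt _ (by norm_num)
  interval_cases h : q % 3 <;> simp_all

theorem even_mod (h : q % 3 ≠ 0) (k : ℕ) : q ^ (2 * k) % 3 = 1 := by
  rw [pow_mul]; exact pow_mod_three_one (sq_mod h) k

theorem even_dvd (h : q % 3 ≠ 0) (k : ℕ) : 3 ∣ q ^ (2 * k) - 1 :=
  sub_dvd (even_mod h k) (by omega)

theorem six_dvd (h : q % 3 ≠ 0) (k : ℕ) : 9 ∣ q ^ (6 * k) - 1 := by
  apply sub_dvd _ (by omega)
  rw [pow_mul, Nat.pow_mod, six_mod h, one_pow]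

theorem cube_mod_one (h : q % 3 = 1) : 9 ∣ q ^ 3 - 1 := by
  apply sub_dvd _ (by omega)
  rw [Nat.pow_mod]
  have h1 : q % 9 < 9 := Nat.mod_lt _ (by norm_num)
  have h2 : q % 9 % 3 = 1 := by omega
  interval_cases h : q % 9 <;> simp_all

theorem one_dvd' (h : q % 3 = 1) (k : ℕ) : 3 ∣ q ^ k - 1 := sub_dvd (pow_mod_three_one h k) (by omega)

theorem cube_mod_two (h : q % 3 = 2) : 9 ∣ q ^ 3 + 1 := by
  apply Nat.dvd_of_mod_eq_zero
  rw [Nat.add_mod, Nat.pow_mod]
  have h1 : q % 9 < 9 := Nat.mod_lt _ (by norm_num)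
  have h2 : q % 9 % 3 = 2 := by omega
  interval_cases h : q % 9 <;> simp_all

theorem odd_mod_two (h : q % 3 = 2) (k : ℕ) : q ^ (2 * k + 1) % 3 = 2 := by
  rw [pow_succ, Nat.mul_mod, even_mod (by omega), h]

theorem two_dvd' (h : q % 3 = 2) (k : ℕ) : 3 ∣ q ^ (2 * k + 1) + 1 := by
  have := odd_mod_two h k
  omega

/-- `(q²-1)(q⁴-1)(q⁶-1)` -/
theorem prod3 (h : q % 3 ≠ 0) : 3 ^ 4 ∣ (q ^ 2 - 1) * (q ^ 4 - 1) * (q ^ 6 - 1) := by
  have h1 := even_dvd h 1
  have h2 := even_dvd h 2
  have h3 := six_dvd h 1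
  exact mul_dvd_mul (mul_dvd_mul (a := 3) (c := 3) h1 h2) (c := 9) h3

theorem e2 (hq : 0 < q) : q ^ 2 - 1 = (q - 1) * (q + 1) := by
  obtain ⟨k, rfl⟩ : ∃ k, q = k + 1 := ⟨q - 1, by omega⟩
  rw [Nat.add_sub_cancel]
  exact Nat.sub_eq_of_eq_add (by ring)

theorem e3 (hq : 0 < q) : q ^ 3 - 1 = (q - 1) * (q ^ 2 + q + 1) := by
  obtain ⟨k, rfl⟩ : ∃ k, q = k + 1 := ⟨q - 1, by omega⟩
  rw [Nat.add_sub_cancel]
  exact Nat.sub_eq_of_eq_add (by ring)

theorem e4 (hq : 0 < q) : q ^ 4 - 1 = (q ^ 2 - 1) * (q ^ 2 + 1) := by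
  have h := e2 (q := q ^ 2) (pow_pos hq 2)
  rw [← h, ← pow_mul]

theorem e3' (hq : 0 < q) : q ^ 3 + 1 = (q + 1) * (q ^ 2 - q + 1) := by
  obtain ⟨k, rfl⟩ : ∃ k, q = k + 1 := ⟨q - 1, by omega⟩
  have : (k + 1) ^ 2 - (k + 1) = (k + 1) * k := Nat.sub_eq_of_eq_add (by ring)
  rw [this]; ring

/-- a prime power divisible by 3 is 3 or divisible by 9 -/
theorem three_or_nine (hq : IsPrimePow q) (h : q % 3 = 0) : q = 3 ∨ 9 ∣ q := by
  obtain ⟨p, k, hp, hk, rfl⟩ := hq
  have h3 : 3 ∣ p := Nat.prime_three.dvd_of_dvd_pow (Nat.dvd_of_mod_eq_zero h)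
  have hp3 : 3 = p := (Nat.prime_dvd_prime_iff_eq Nat.prime_three hp.nat_prime).1 h3
  subst hp3
  rcases Nat.lt_or_ge k 2 with h1 | h1
  · left
    have : k = 1 := by omega
    rw [this, pow_one]
  · right
    exact pow_dvd_pow 3 h1

end

/-! ### symplectic and orthogonal groups -/

theorem sp_big {q c N e m : ℕ} (hc : ¬ 3 ∣ c) (he : 4 ≤ e) (hm : 3 ≤ m) {r : ℕ}
    (h : c * N = q ^ e * r * ∏ i ∈ Finset.range m, (q ^ (2 * (i + 1)) - 1)) : 3 ^ 4 ∣ N := by
  apply cancel 4 hc
  rw [h]
  by_cases h0 : q % 3 = 0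
  · apply Dvd.dvd.mul_right
    apply Dvd.dvd.mul_right
    exact (pow_dvd_pow_of_dvd (Nat.dvd_of_mod_eq_zero h0) 4).trans (pow_dvd_pow q he)
  · apply Dvd.dvd.mul_left
    have h1 : ∏ i ∈ Finset.range 3, (q ^ (2 * (i + 1)) - 1) ∣ ∏ i ∈ Finset.range m, (q ^ (2 * (i + 1)) - 1) :=
      Finset.prod_dvd_prod_of_subset _ _ _ (Finset.range_subset_range.2 hm)
    refine Dvd.dvd.trans ?_ h1
    rw [Finset.prod_range_succ, Finset.prod_range_succ, Finset.prod_range_succ, Finset.prod_range_zero, one_mul]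
    exact prod3 h0

theorem sp_four {q c N : ℕ} (hq : 0 < q) (hc : ¬ 3 ∣ c)
    (h : c * N = q ^ 4 * ((q ^ 2 - 1) * (q ^ 4 - 1))) (h27 : 3 ^ 3 ∣ N) : 3 ^ 4 ∣ N := by
  by_cases h0 : q % 3 = 0
  · apply cancel 4 hc
    rw [h]
    apply Dvd.dvd.mul_right
    exact pow_dvd_pow_of_dvd (Nat.dvd_of_mod_eq_zero h0) 4
  · apply even81 hc (u := q ^ 4 * (q ^ 2 + 1)) (a := q ^ 2 - 1) _ _ h27
    · apply nd_mul (nd_pow (by omega))
      have := sq_mod h0
      omega
    · rw [h, e4 hq]; ring

/-! ### linear groups -/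

theorem fac {q n i : ℕ} (hi : i ≤ n) : q ^ n - q ^ (n - i) = q ^ (n - i) * (q ^ i - 1) := by
  obtain ⟨j, rfl⟩ : ∃ j, n = j + i := ⟨n - i, by omega⟩
  rw [Nat.add_sub_cancel, pow_add, Nat.mul_sub, mul_one]

/-- the factors `q ^ i - 1` of the order of the linear group -/
theorem dvd_gl {q n : ℕ} (k : ℕ) (hk : k ≤ n) :
    ∏ i ∈ Finset.range k, (q ^ (i + 1) - 1) ∣ ∏ i ∈ Finset.range n, (q ^ n - q ^ i) := by
  rw [← Finset.prod_range_reflect (fun i => q ^ n - q ^ i)]
  refine Dvd.dvd.trans ?_ (Finset.prod_dvd_prod_of_subset (Finset.range k) _ _ (Finset.range_subset_range.2 hk))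
  apply Finset.prod_dvd_prod_of_dvd
  intro i hi
  rw [Finset.mem_range] at hi
  have h1 : n - 1 - i = n - (i + 1) := by omega
  rw [h1, fac (by omega)]
  exact Dvd.intro_left _ rfl

theorem gcd_dvd_sq {n a N P : ℕ} (h : Nat.gcd n a * (a * N) = P) : P ∣ a * a * N := by
  obtain ⟨d, hd⟩ := Nat.gcd_dvd_right n a
  refine ⟨d, ?_⟩
  rw [← h]
  conv_lhs => lhs; lhs; rw [hd]
  ring

theorem nd_gcd {n a : ℕ} (h : ¬ 3 ∣ a) : ¬ 3 ∣ Nat.gcd n a := fun h1 => h (h1.trans (Nat.gcd_dvd_right _ _))

theorem nd_gcd' {n a : ℕ} (h : ¬ 3 ∣ n) : ¬ 3 ∣ Nat.gcd n a := fun h1 => h (h1.trans (Nat.gcd_dvd_left _ _))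

theorem psl_big {q n N : ℕ} (hq : 2 ≤ q) (hn : 4 ≤ n)
    (h : Nat.gcd n (q - 1) * ((q - 1) * N) = ∏ i ∈ Finset.range n, (q ^ n - q ^ i)) (h27 : 3 ^ 3 ∣ N) :
    3 ^ 4 ∣ N := by
  by_cases h0 : q % 3 = 0
  · -- characteristic 3
    have h1 : q ^ 6 ∣ ∏ i ∈ Finset.range n, (q ^ n - q ^ i) := by
      refine Dvd.dvd.trans ?_ (Finset.prod_dvd_prod_of_subset (Finset.range 4) _ _
        (Finset.range_subset_range.2 hn))
      rw [Finset.prod_range_succ, Finset.prod_range_succ, Finset.prod_range_succ, Finset.prod_range_succ,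
        Finset.prod_range_zero, one_mul]
      have h2 : ∀ i < 4, q ^ i ∣ q ^ n - q ^ i := fun i hi =>
        Nat.dvd_sub (pow_dvd_pow q (by omega)) dvd_rfl
      have := mul_dvd_mul (mul_dvd_mul (mul_dvd_mul (h2 0 (by norm_num)) (h2 1 (by norm_num)))
        (h2 2 (by norm_num))) (h2 3 (by norm_num))
      rw [← pow_add, ← pow_add, ← pow_add] at this
      exact this
    have h3 : ¬ 3 ∣ q - 1 := by omega
    apply cancel 4 (nd_mul (nd_gcd (n := n) h3) h3)
    rw [mul_assoc, h]
    refine Dvd.dvd.trans ?_ h1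
    exact (pow_dvd_pow 3 (by norm_num)).trans (pow_dvd_pow_of_dvd (Nat.dvd_of_mod_eq_zero h0) 6)
  · by_cases h1 : q % 3 = 1
    · rcases Nat.lt_or_ge n 5 with h5 | h5
      · have h4 : n = 4 := by omega
        subst h4
        have h6 := dvd_gl (q := q) (n := 4) 4 le_rfl
        rw [← h] at h6
        rw [Finset.prod_range_succ, Finset.prod_range_succ, Finset.prod_range_succ, Finset.prod_range_succ,
          Finset.prod_range_zero, one_mul] at h6
        have h7 : (q - 1) * ((q ^ 2 - 1) * (q ^ 3 - 1) * (q ^ 4 - 1)) ∣ (q - 1) * (Nat.gcd 4 (q - 1) * N) := by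
          have e : (q - 1) * ((q ^ 2 - 1) * (q ^ 3 - 1) * (q ^ 4 - 1)) =
            (q ^ (0 + 1) - 1) * (q ^ (1 + 1) - 1) * (q ^ (2 + 1) - 1) * (q ^ (3 + 1) - 1) := by
            rw [show q ^ (0 + 1) = q by rw [zero_add, pow_one]]
            ring
          rw [e]
          refine h6.trans (dvd_of_eq (by ring))
        have h8 := Nat.dvd_of_mul_dvd_mul_left (by omega) h7
        apply cancel 4 (nd_gcd' (a := q - 1) (by norm_num : ¬ 3 ∣ 4))
        refine Dvd.dvd.trans ?_ h8
        exact mul_dvd_mul (mul_dvd_mul (a := 3) (c := 9) (one_dvd' h1 2) (cube_mod_one h1)) (c := 3) (one_dvd' h1 4)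
      · have h6 := (dvd_gl (q := q) (n := n) 5 h5).trans (gcd_dvd_sq h)
        rw [Finset.prod_range_succ, Finset.prod_range_succ, Finset.prod_range_succ, Finset.prod_range_succ,
          Finset.prod_range_succ, Finset.prod_range_zero, one_mul] at h6
        have h7 : (q - 1) * (q - 1) * ((q + 1) * (q ^ 3 - 1) * (q ^ 4 - 1) * (q ^ 5 - 1)) ∣
            (q - 1) * (q - 1) * N := by
          have e : (q - 1) * (q - 1) * ((q + 1) * (q ^ 3 - 1) * (q ^ 4 - 1) * (q ^ 5 - 1)) =
            (q ^ (0 + 1) - 1) * (q ^ (1 + 1) - 1) * (q ^ (2 + 1) - 1) * (q ^ (3 + 1) - 1) * (q ^ (4 + 1) - 1) := by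
            rw [show q ^ (0 + 1) = q by rw [zero_add, pow_one], show q ^ (1 + 1) - 1 = (q - 1) * (q + 1) from
              e2 (by omega)]
            ring
          rw [e]
          exact h6
        have h8 := Nat.dvd_of_mul_dvd_mul_left (Nat.mul_pos (by omega) (by omega)) h7
        refine Dvd.dvd.trans ?_ h8
        refine Dvd.dvd.trans ?_ (mul_dvd_mul (mul_dvd_mul (a := 9) (c := 3) (Dvd.dvd.mul_left (cube_mod_one h1) (q + 1))
          (one_dvd' h1 4)) (c := 3) (one_dvd' h1 5))
        norm_num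
    · have h2 : q % 3 = 2 := by omega
      have h3 : ¬ 3 ∣ q - 1 := by omega
      have h4 : ¬ 3 ∣ Nat.gcd n (q - 1) * (q - 1) := nd_mul (nd_gcd h3) h3
      rcases Nat.lt_or_ge n 6 with h5 | h5
      · have h6 : Nat.gcd n (q - 1) * (q - 1) * N = (q ^ (n * (n - 1) / 2) * (q ^ 2 + 1) * (q - 1) * (q ^ 3 - 1) *
            (if n = 5 then (q ^ 5 - 1) else 1)) * ((q ^ 2 - 1) * (q ^ 2 - 1)) := by
          rw [mul_assoc, h]
          have hn' : n = 4 ∨ n = 5 := by omega
          rcases hn' with rfl | rfl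
          · rw [if_neg (by norm_num), mul_one]
            rw [Finset.prod_range_succ, Finset.prod_range_succ, Finset.prod_range_succ, Finset.prod_range_succ,
              Finset.prod_range_zero, one_mul]
            have f1 := fac (q := q) (n := 4) (i := 4) (by norm_num)
            have f2 := fac (q := q) (n := 4) (i := 3) (by norm_num)
            have f3 := fac (q := q) (n := 4) (i := 2) (by norm_num)
            have f4 := fac (q := q) (n := 4) (i := 1) (by norm_num)
            norm_num only [_root_.pow_zero, _root_.one_mul, _root_.pow_one] at f1 f2 f3 f4 ⊢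
            rw [f2, f3, f4, e4 (by omega)]
            ring
          · rw [if_pos rfl]
            rw [Finset.prod_range_succ, Finset.prod_range_succ, Finset.prod_range_succ, Finset.prod_range_succ,
              Finset.prod_range_succ, Finset.prod_range_zero, one_mul]
            have f1 := fac (q := q) (n := 5) (i := 5) (by norm_num)
            have f2 := fac (q := q) (n := 5) (i := 4) (by norm_num)
            have f3 := fac (q := q) (n := 5) (i := 3) (by norm_num)
            have f4 := fac (q := q) (n := 5) (i := 2) (by norm_num)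
            have f5 := fac (q := q) (n := 5) (i := 1) (by norm_num)
            norm_num only [_root_.pow_zero, _root_.one_mul, _root_.pow_one] at f1 f2 f3 f4 f5 ⊢
            rw [f2, f3, f4, f5, e4 (by omega)]
            ring
        apply even81 h4 _ h6 h27
        have g2 := sq_mod h0
        have g3 : q ^ 3 % 3 = 2 := odd_mod_two h2 1
        have g5 : q ^ 5 % 3 = 2 := odd_mod_two h2 2
        refine nd_mul (nd_mul (nd_mul (nd_mul (nd_pow (by omega)) (by omega)) h3) (by omega)) ?_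
        split_ifs
        · omega
        · omega
      · apply cancel 4 h4
        rw [mul_assoc, h]
        refine Dvd.dvd.trans ?_ (dvd_gl (q := q) (n := n) 6 h5)
        rw [Finset.prod_range_succ, Finset.prod_range_succ, Finset.prod_range_succ, Finset.prod_range_succ,
          Finset.prod_range_succ, Finset.prod_range_succ, Finset.prod_range_zero, one_mul]
        refine (prod3 h0).trans ⟨(q ^ (0 + 1) - 1) * (q ^ (2 + 1) - 1) * (q ^ (4 + 1) - 1), ?_⟩
        ring

/-- `PSL₃(q)` -/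
theorem psl_three {q N : ℕ} (hp : IsPrimePow q)
    (h : Nat.gcd 3 (q - 1) * ((q - 1) * N) = ∏ i ∈ Finset.range 3, (q ^ 3 - q ^ i)) (h27 : 3 ^ 3 ∣ N)
    (h81 : ¬ 3 ^ 4 ∣ N) (h7 : 7 ∣ N) : q % 3 = 2 := by
  have hq : 2 ≤ q := hp.two_le
  by_contra hcon
  rw [Finset.prod_range_succ, Finset.prod_range_succ, Finset.prod_range_succ,
    Finset.prod_range_zero, one_mul] at h
  have f2 := fac (q := q) (n := 3) (i := 2) (by norm_num)
  have f3 := fac (q := q) (n := 3) (i := 1) (by norm_num)
  norm_num only [_root_.pow_one, _root_.pow_zero] at f2 f3 h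
  rw [f2, f3] at h
  by_cases h0 : q % 3 = 0
  · rcases three_or_nine hp h0 with h1 | h1
    · subst h1
      norm_num at h
      omega
    · apply h81
      have h3 : ¬ 3 ∣ q - 1 := by (clear * - hq h0; omega)
      apply cancel 4 (nd_mul (nd_gcd (n := 3) h3) h3)
      rw [mul_assoc, h]
      have h4 : 3 ^ 4 ∣ q ^ 2 * (q - 1) := by
        apply Dvd.dvd.mul_right
        exact (dvd_of_eq (by norm_num)).trans (pow_dvd_pow_of_dvd h1 2)
      exact Dvd.dvd.mul_left h4 _
  · have h1 : q % 3 = 1 := by (clear * - hcon h0; omega)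
    apply h81
    obtain ⟨k, hk⟩ : ∃ k, q = 3 * k + 1 := ⟨q / 3, by omega⟩
    have hg : Nat.gcd 3 (q - 1) = 3 := by
      have : q - 1 = 3 * k := by (clear * - hk; omega)
      rw [this, Nat.gcd_mul_right_right]
    rw [hg, e3 (by omega), e2 (by omega)] at h
    have hw : q ^ 2 + q + 1 = 3 * (3 * k ^ 2 + 3 * k + 1) := by rw [hk]; ring
    rw [hw] at h
    have h5 : N * (3 * (q - 1)) = q ^ 3 * (3 * k ^ 2 + 3 * k + 1) * (q + 1) * ((q - 1) * (q - 1)) * (3 * (q - 1)) := by
      linarith only [h]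
    have h6 := Nat.eq_of_mul_eq_mul_right (by (clear * - hq; omega) : 0 < 3 * (q - 1)) h5
    apply even81 (c := 1) (by norm_num) (u := q ^ 3 * (3 * k ^ 2 + 3 * k + 1) * (q + 1)) (a := q - 1) _ _ h27
    · refine nd_mul (nd_mul (nd_pow (by omega)) ?_) (by omega)
      rintro ⟨w, hw⟩
      omega
    · rw [one_mul]; exact h6

/-! ### unitary groups -/

/-- the factors of the order of the unitary group -/
def uf (q i : ℕ) : ℕ := if Even i then q ^ (i + 1) + 1 else q ^ (i + 1) - 1

theorem uf0 (q : ℕ) : uf q 0 = q + 1 := by unfold uf; rw [if_pos (by decide), zero_add, pow_one]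
theorem uf1 (q : ℕ) : uf q 1 = q ^ 2 - 1 := by unfold uf; rw [if_neg (by decide)]
theorem uf2 (q : ℕ) : uf q 2 = q ^ 3 + 1 := by unfold uf; rw [if_pos (by decide)]
theorem uf3 (q : ℕ) : uf q 3 = q ^ 4 - 1 := by unfold uf; rw [if_neg (by decide)]
theorem uf4 (q : ℕ) : uf q 4 = q ^ 5 + 1 := by unfold uf; rw [if_pos (by decide)]
theorem uf5 (q : ℕ) : uf q 5 = q ^ 6 - 1 := by unfold uf; rw [if_neg (by decide)]

theorem psu_big {q n N : ℕ} (hq : 2 ≤ q) (hn : 4 ≤ n)
    (h : Nat.gcd n (q + 1) * ((q + 1) * N) = q ^ (n * (n - 1) / 2) * ∏ i ∈ Finset.range n, uf q i)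
    (h27 : 3 ^ 3 ∣ N) : 3 ^ 4 ∣ N := by
  have hsub : ∀ k ≤ n, ∏ i ∈ Finset.range k, uf q i ∣ Nat.gcd n (q + 1) * ((q + 1) * N) := by
    intro k hk
    rw [h]
    exact Dvd.dvd.mul_left (Finset.prod_dvd_prod_of_subset _ _ _ (Finset.range_subset_range.2 hk)) _
  by_cases h0 : q % 3 = 0
  · have h3 : ¬ 3 ∣ q + 1 := by omega
    apply cancel 4 (nd_mul (nd_gcd (n := n) h3) h3)
    rw [mul_assoc, h]
    apply Dvd.dvd.mul_right
    have h4 : 4 ≤ n * (n - 1) / 2 := by
      have : 4 * 3 ≤ n * (n - 1) := Nat.mul_le_mul hn (by omega)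
      omega
    exact (pow_dvd_pow_of_dvd (Nat.dvd_of_mod_eq_zero h0) 4).trans (pow_dvd_pow q h4)
  · by_cases h1 : q % 3 = 2
    · rcases Nat.lt_or_ge n 5 with h5 | h5
      · have h4 : n = 4 := by omega
        subst h4
        have h6 := hsub 4 le_rfl
        rw [Finset.prod_range_succ, Finset.prod_range_succ, Finset.prod_range_succ, Finset.prod_range_succ,
          Finset.prod_range_zero, one_mul, uf0, uf1, uf2, uf3] at h6
        have h7 : (q + 1) * ((q ^ 2 - 1) * (q ^ 3 + 1) * (q ^ 4 - 1)) ∣ (q + 1) * (Nat.gcd 4 (q + 1) * N) := by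
          have e : (q + 1) * ((q ^ 2 - 1) * (q ^ 3 + 1) * (q ^ 4 - 1)) =
            (q + 1) * (q ^ 2 - 1) * (q ^ 3 + 1) * (q ^ 4 - 1) := by ring
          rw [e]
          refine h6.trans (dvd_of_eq (by ring))
        have h8 := Nat.dvd_of_mul_dvd_mul_left (by omega) h7
        apply cancel 4 (nd_gcd' (a := q + 1) (by norm_num : ¬ 3 ∣ 4))
        refine Dvd.dvd.trans ?_ h8
        exact mul_dvd_mul (mul_dvd_mul (a := 3) (c := 9) (even_dvd h0 1) (cube_mod_two h1)) (c := 3) (even_dvd h0 2)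
      · have h6 := (hsub 5 h5).trans (gcd_dvd_sq rfl)
        rw [Finset.prod_range_succ, Finset.prod_range_succ, Finset.prod_range_succ, Finset.prod_range_succ,
          Finset.prod_range_succ, Finset.prod_range_zero, one_mul, uf0, uf1, uf2, uf3, uf4, e2 (by omega)] at h6
        have h7 : (q + 1) * (q + 1) * ((q - 1) * (q ^ 3 + 1) * (q ^ 4 - 1) * (q ^ 5 + 1)) ∣
            (q + 1) * (q + 1) * N := by
          refine Dvd.dvd.trans (dvd_of_eq (by ring)) h6
        have h8 := Nat.dvd_of_mul_dvd_mul_left (Nat.mul_pos (by omega) (by omega)) h7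
        refine Dvd.dvd.trans ?_ h8
        refine Dvd.dvd.trans ?_ (mul_dvd_mul (mul_dvd_mul (a := 9) (c := 3) (Dvd.dvd.mul_left (cube_mod_two h1) (q - 1))
          (even_dvd h0 2)) (c := 3) (two_dvd' h1 2))
        norm_num
    · have h2 : q % 3 = 1 := by omega
      have h3 : ¬ 3 ∣ q + 1 := by omega
      have h4 : ¬ 3 ∣ Nat.gcd n (q + 1) * (q + 1) := nd_mul (nd_gcd h3) h3
      rcases Nat.lt_or_ge n 6 with h5 | h5
      · have h6 : Nat.gcd n (q + 1) * (q + 1) * N = (q ^ (n * (n - 1) / 2) * (q ^ 2 + 1) * (q + 1) * (q ^ 3 + 1) *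
            (if n = 5 then (q ^ 5 + 1) else 1)) * ((q ^ 2 - 1) * (q ^ 2 - 1)) := by
          rw [mul_assoc, h]
          have hn' : n = 4 ∨ n = 5 := by omega
          rcases hn' with rfl | rfl
          · rw [if_neg (by norm_num), mul_one]
            rw [Finset.prod_range_succ, Finset.prod_range_succ, Finset.prod_range_succ, Finset.prod_range_succ,
              Finset.prod_range_zero, one_mul, uf0, uf1, uf2, uf3, e4 (by omega)]
            ring
          · rw [if_pos rfl]
            rw [Finset.prod_range_succ, Finset.prod_range_succ, Finset.prod_range_succ, Finset.prod_range_succ,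
              Finset.prod_range_succ, Finset.prod_range_zero, one_mul, uf0, uf1, uf2, uf3, uf4, e4 (by omega)]
            ring
        apply even81 h4 _ h6 h27
        have g2 := sq_mod h0
        have g3 := pow_mod_three_one h2 3
        have g5 := pow_mod_three_one h2 5
        refine nd_mul (nd_mul (nd_mul (nd_mul (nd_pow (by omega)) (by omega)) h3) (by omega)) ?_
        split_ifs
        · omega
        · omega
      · apply cancel 4 h4
        rw [mul_assoc]
        refine Dvd.dvd.trans ?_ (hsub 6 h5)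
        rw [Finset.prod_range_succ, Finset.prod_range_succ, Finset.prod_range_succ, Finset.prod_range_succ,
          Finset.prod_range_succ, Finset.prod_range_succ, Finset.prod_range_zero, one_mul, uf1, uf3, uf5]
        refine (prod3 h0).trans ⟨uf q 0 * uf q 2 * uf q 4, ?_⟩
        ring

/-- `PSU₃(q)` -/
theorem psu_three {q N : ℕ} (hp : IsPrimePow q)
    (h : Nat.gcd 3 (q + 1) * ((q + 1) * N) = q ^ (3 * (3 - 1) / 2) * ∏ i ∈ Finset.range 3, uf q i) (h27 : 3 ^ 3 ∣ N)
    (h81 : ¬ 3 ^ 4 ∣ N) (h11 : 11 ∣ N) : q % 3 = 1 := by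
  have hq : 2 ≤ q := hp.two_le
  by_contra hcon
  rw [Finset.prod_range_succ, Finset.prod_range_succ, Finset.prod_range_succ,
    Finset.prod_range_zero, one_mul, uf0, uf1, uf2, show 3 * (3 - 1) / 2 = 3 by norm_num] at h
  by_cases h0 : q % 3 = 0
  · rcases three_or_nine hp h0 with h1 | h1
    · subst h1
      norm_num at h
      omega
    · apply h81
      have h3 : ¬ 3 ∣ q + 1 := by omega
      apply cancel 4 (nd_mul (nd_gcd (n := 3) h3) h3)
      rw [mul_assoc, h]
      apply Dvd.dvd.mul_right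
      exact ((dvd_of_eq (by norm_num)).trans (pow_dvd_pow_of_dvd h1 2)).trans (pow_dvd_pow q (by norm_num : 2 ≤ 3))
  · have h1 : q % 3 = 2 := by omega
    apply h81
    obtain ⟨k, hk⟩ : ∃ k, q = 3 * k + 2 := ⟨q / 3, by omega⟩
    have hg : Nat.gcd 3 (q + 1) = 3 := by
      have : q + 1 = 3 * (k + 1) := by omega
      rw [this, Nat.gcd_mul_right_right]
    rw [hg, e3' (by omega), e2 (by omega)] at h
    have hw : q ^ 2 - q + 1 = 3 * (3 * k ^ 2 + 3 * k + 1) := by
      have : q ^ 2 = q + (9 * k ^ 2 + 9 * k + 2) := by rw [hk]; ring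
      rw [this, Nat.add_sub_cancel_left]; ring
    rw [hw] at h
    have h5 : N * (3 * (q + 1)) = q ^ 3 * (3 * k ^ 2 + 3 * k + 1) * (q - 1) * ((q + 1) * (q + 1)) * (3 * (q + 1)) := by
      linarith only [h]
    have h6 := Nat.eq_of_mul_eq_mul_right (by omega : 0 < 3 * (q + 1)) h5
    apply even81 (c := 1) (by norm_num) (u := q ^ 3 * (3 * k ^ 2 + 3 * k + 1) * (q - 1)) (a := q + 1) _ _ h27
    · refine nd_mul (nd_mul (nd_pow (by omega)) ?_) (by (clear * - hk; omega))
      rintro ⟨w, hw⟩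
      omega
    · rw [one_mul]; exact h6

end Cfsg.Agent.H337.OrdElim
end

-- part: H337/OrdElim
section
/-!
# The known simple groups with `27 ∥ |S|` and `7 · 11 ∣ |S|`
-/

set_option autoImplicit false

namespace Cfsg.Agent.H337.OrdElim

open Cfsg Cfsg.Agent.OrdDiv

universe u

/-- the possible groups -/
def Left (S : Type u) [Group S] : Prop :=
  (∃ (F : Type) (_ : Field F) (_ : Fintype F),
      Nonempty (S ≃* Matrix.ProjectiveSpecialLinearGroup (Fin 2) F)) ∨
  (∃ (F : Type) (_ : Field F) (_ : Fintype F), Fintype.card F % 3 = 2 ∧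
      Nonempty (S ≃* Matrix.ProjectiveSpecialLinearGroup (Fin 3) F)) ∨
  (∃ (F : Type) (_ : Field F) (_ : Fintype F) (q : ℕ), Fintype.card F = q ^ 2 ∧ q % 3 = 1 ∧
      Nonempty (S ≃* PSU 3 F q)) ∨
  (∃ (F : Type) (_ : Field F) (_ : Fintype F), 3 ≤ Fintype.card F ∧ Fintype.card F % 3 ≠ 0 ∧
      Nonempty (S ≃* ↥(Lie.chevG2.group F))) ∨
  Spor.IsoM24 S ∨ Spor.IsoJ4 S

theorem spor_dec : ∀ x ∈ spor, 3 ^ 3 ∣ x.2 → ¬ 3 ^ 4 ∣ x.2 → 7 ∣ x.2 → 11 ∣ x.2 → x.1 = .m24 ∨ x.1 = .j4 := by
  decide +kernel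

theorem tf4_num {m : ℕ} {N : ℕ} (h : N = (2 ^ (2 * m + 1)) ^ 12 * (2 ^ (2 * m + 1) - 1) *
      ((2 ^ (2 * m + 1)) ^ 3 + 1) * ((2 ^ (2 * m + 1)) ^ 4 - 1) * ((2 ^ (2 * m + 1)) ^ 6 + 1)) (h7 : 7 ∣ N) :
    3 ^ 4 ∣ N := by
  -- `q mod 63`
  have hper : ∀ k : ℕ, 2 ^ (6 * k) % 63 = 1 := by
    intro k
    rw [pow_mul, Nat.pow_mod]
    norm_num
  have key : ∀ r < 6, 2 ^ (6 * (m / 3) + r) % 63 = 2 ^ r % 63 := by
    intro r _
    rw [pow_add, Nat.mul_mod, hper]
    norm_num
  obtain ⟨q, hq⟩ : ∃ q, q = 2 ^ (2 * m + 1) := ⟨_, rfl⟩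
  have hm : 2 * m + 1 = 6 * (m / 3) + (2 * (m % 3) + 1) := by omega
  have hq63 : q % 63 = 2 ^ (2 * (m % 3) + 1) % 63 := by
    rw [hq, hm]; exact key _ (by omega)
  rw [← hq] at h
  have hr : m % 3 < 3 := Nat.mod_lt _ (by norm_num)
  have hpos : 0 < q := by rw [hq]; positivity
  -- `7 ∣ N` forces `q ≡ 8 mod 63`
  have h8 : q % 63 = 8 := by
    interval_cases h3 : m % 3
    · exfalso
      have h2 : q % 7 = 2 := by (clear * - hq63; omega)
      have e1 : q ^ 12 % 7 = 1 := by rw [Nat.pow_mod, h2]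
      have e3 : q ^ 3 % 7 = 1 := by rw [Nat.pow_mod, h2]
      have e4 : q ^ 4 % 7 = 2 := by rw [Nat.pow_mod, h2]
      have e6 : q ^ 6 % 7 = 1 := by rw [Nat.pow_mod, h2]
      have p7 : Nat.Prime 7 := by norm_num
      rw [h] at h7
      rcases (p7.dvd_mul).1 h7 with h7 | h7
      · rcases (p7.dvd_mul).1 h7 with h7 | h7
        · rcases (p7.dvd_mul).1 h7 with h7 | h7
          · rcases (p7.dvd_mul).1 h7 with h7 | h7 <;> (clear * - e1 h7 hq63; omega)
          · omega
        · omega
      · omega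
    · simpa using hq63
    · exfalso
      have h2 : q % 7 = 4 := by
        have : q % 63 = 32 := by simpa using hq63
        (clear * - hq63; omega)
      have e1 : q ^ 12 % 7 = 1 := by rw [Nat.pow_mod, h2]
      have e3 : q ^ 3 % 7 = 1 := by rw [Nat.pow_mod, h2]
      have e4 : q ^ 4 % 7 = 4 := by rw [Nat.pow_mod, h2]
      have e6 : q ^ 6 % 7 = 1 := by rw [Nat.pow_mod, h2]
      have p7 : Nat.Prime 7 := by norm_num
      rw [h] at h7
      rcases (p7.dvd_mul).1 h7 with h7 | h7
      · rcases (p7.dvd_mul).1 h7 with h7 | h7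
        · rcases (p7.dvd_mul).1 h7 with h7 | h7
          · rcases (p7.dvd_mul).1 h7 with h7 | h7 <;> (clear * - e1 h7 hq63; omega)
          · omega
        · omega
      · omega
  have h9 : q % 9 = 8 := by (clear * - h8; omega)
  have d1 : 9 ∣ q + 1 := by (clear * - h8; omega)
  have d3 : 9 ∣ q ^ 3 + 1 := by
    rw [e3' hpos]; exact Dvd.dvd.mul_right d1 _
  have d4 : 9 ∣ q ^ 4 - 1 := by
    rw [e4 hpos, e2 hpos]
    exact Dvd.dvd.mul_right (Dvd.dvd.mul_left d1 _) _
  rw [h]
  apply Dvd.dvd.mul_right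
  have := mul_dvd_mul (Dvd.dvd.mul_left d3 (q ^ 12 * (q - 1))) d4
  exact this

/-- **The elimination.** -/
theorem elim (T : OrderTable.{u}) {S : Type u} [Group S] (h : IsKnownSimple' S)
    (hna : ¬ ∀ a b : S, a * b = b * a) (h27 : 3 ^ 3 ∣ Nat.card S) (h81 : ¬ 3 ^ 4 ∣ Nat.card S)
    (h7 : 7 ∣ Nat.card S) (h11 : 11 ∣ Nat.card S) : Left S := by
  have key : ∀ (g : Grp), g ∈ spor.map (fun x => x.1) → Real g S → g = .m24 ∨ g = .j4 := fun g hg hr => by
    obtain ⟨x, hx, rfl⟩ := List.mem_map.1 hg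
    have hc := T.spor S x hx hr
    rw [hc] at h27 h81 h7 h11
    exact spor_dec x hx h27 h81 h7 h11
  rcases h with h | h | h | h | h | h | h | h | h | h
  · exfalso
    have : Fact (Nat.card S).Prime := ⟨h⟩
    have : IsCyclic S := isCyclic_of_prime_card (p := Nat.card S) rfl
    exact hna fun a b => (IsCyclic.isMulCommutative (α := S)).is_comm.comm a b
  · exfalso
    obtain ⟨n, hn, ⟨e⟩⟩ := h
    have hc := alt_card hn e
    rcases Nat.lt_or_ge n 9 with h9 | h9
    · have h1 : n.factorial ∣ Nat.factorial 8 := Nat.factorial_dvd_factorial (by omega)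
      have h2 : 3 ^ 3 ∣ Nat.factorial 8 := (h27.trans (Dvd.intro_left 2 hc.symm)).trans h1
      revert h2
      decide
    · apply h81
      apply cancel 4 (c := 2) (by norm_num)
      rw [← hc]
      exact (by decide : 3 ^ 4 ∣ Nat.factorial 9).trans (Nat.factorial_dvd_factorial h9)
  · obtain ⟨F, _, _, n, hn, hn2, ⟨e⟩⟩ := h
    have hc := S0243.result (F := F) rfl n hn
    rw [Fin.prod_univ_eq_prod_range (fun i => Fintype.card F ^ n - Fintype.card F ^ i) n,
      ← Nat.card_congr e.toEquiv] at hc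
    have hq : 1 < Fintype.card F := Fintype.one_lt_card
    rcases Nat.lt_or_ge n 4 with h4 | h4
    · have : n = 2 ∨ n = 3 := by omega
      rcases this with rfl | rfl
      · exact Or.inl ⟨F, inferInstance, inferInstance, ⟨e⟩⟩
      · refine Or.inr (Or.inl ⟨F, inferInstance, inferInstance, ?_, ⟨e⟩⟩)
        exact psl_three Fintype.isPrimePow_card_of_field hc h27 h81 h7
    · exact absurd (psl_big (by omega) h4 hc h27) h81
  · exfalso
    obtain ⟨F, _, _, m, hm, hm2, ⟨e⟩⟩ := h
    have hq : 1 < Fintype.card F := Fintype.one_lt_card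
    have hc : Nat.gcd 2 (Fintype.card F - 1) * Nat.card S = Fintype.card F ^ (m ^ 2) * 1 *
        ∏ i ∈ Finset.range m, (Fintype.card F ^ (2 * (i + 1)) - 1) := by
      have h1 := S0245.result (F := F) rfl m
      have h2 := S0246.result (F := F) rfl m (by omega)
      have h3 := Subgroup.card_eq_card_quotient_mul_card_subgroup
        (Subgroup.center (Matrix.symplecticGroup (Fin m) F))
      rw [h1, h2] at h3
      rw [Nat.card_congr e.toEquiv, mul_one, mul_comm]
      exact h3.symm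
    have h3 : ¬ 3 ∣ Nat.gcd 2 (Fintype.card F - 1) := nd_gcd' (by norm_num)
    rcases Nat.lt_or_ge m 3 with h4 | h4
    · have h5 : m = 2 := by omega
      subst h5
      rw [Finset.prod_range_succ, Finset.prod_range_succ, Finset.prod_range_zero, one_mul, mul_one] at hc
      exact h81 (sp_four (by omega) h3 hc h27)
    · exact h81 (sp_big h3 (by nlinarith only [h4]) h4 hc)
  · obtain ⟨F, _, _, n, q, hF, hn, hn2, ⟨e⟩⟩ := h
    have hq2 : IsPrimePow (q ^ 2) := hF ▸ Fintype.isPrimePow_card_of_field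
    have hqp : IsPrimePow q := (isPrimePow_pow_iff (by norm_num)).1 hq2
    have hc := S0280.result hF n (by omega)
    rw [← Nat.card_congr e.toEquiv] at hc
    rcases Nat.lt_or_ge n 4 with h4 | h4
    · have h5 : n = 3 := by omega
      subst h5
      refine Or.inr (Or.inr (Or.inl ⟨F, inferInstance, inferInstance, q, hF, ?_, ⟨e⟩⟩))
      exact psu_three hqp hc h27 h81 h11
    · exact absurd (psu_big hqp.two_le h4 hc h27) h81
  · exfalso
    obtain ⟨F, _, _, n, hn, ho, ⟨e⟩⟩ := h
    have hc := S0292.result (F := F) rfl ho n hn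
    rw [← Nat.card_congr e.toEquiv, ← mul_one (Fintype.card F ^ (n ^ 2))] at hc
    exact h81 (sp_big (by norm_num) (by nlinarith only [hn]) hn hc)
  · exfalso
    obtain ⟨F, _, _, n, hn, ⟨e⟩⟩ := h
    have hc := S0293.result (F := F) rfl n hn
    rw [← Nat.card_congr e.toEquiv] at hc
    have h5 : 4 * 3 ≤ n * (n - 1) := Nat.mul_le_mul hn (by omega)
    exact h81 (sp_big (nd_gcd' (by norm_num)) (by omega) (by omega : 3 ≤ n - 1) hc)
  · exfalso
    obtain ⟨F, _, _, n, a, b, hn, hab, ⟨e⟩⟩ := h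
    have hc := S0294.result (F := F) rfl n hn a b hab
    rw [← Nat.card_congr e.toEquiv] at hc
    have h5 : 4 * 3 ≤ n * (n - 1) := Nat.mul_le_mul hn (by omega)
    exact h81 (sp_big (nd_gcd' (by norm_num)) (by omega) (by omega : 3 ≤ n - 1) hc)
  · rcases h with h | h | h | h | h | h | h | h | h | h | h
    · obtain ⟨F, _, _, hq, ⟨e⟩⟩ := h
      refine Or.inr (Or.inr (Or.inr (Or.inl ⟨F, inferInstance, inferInstance, hq, ?_, ⟨e⟩⟩)))
      intro h0
      apply h81
      rw [Nat.card_congr e.toEquiv, T.g2 F]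
      apply Dvd.dvd.mul_right
      apply Dvd.dvd.mul_right
      exact (pow_dvd_pow_of_dvd (Nat.dvd_of_mod_eq_zero h0) 4).trans (pow_dvd_pow _ (by norm_num))
    · exfalso
      obtain ⟨F, _, _, ⟨e⟩⟩ := h
      apply h81
      rw [Nat.card_congr e.toEquiv, T.f4 F _ rfl]
      by_cases h0 : Fintype.card F % 3 = 0
      · iterate 4 apply Dvd.dvd.mul_right
        exact (pow_dvd_pow_of_dvd (Nat.dvd_of_mod_eq_zero h0) 4).trans (pow_dvd_pow _ (by norm_num))
      · have := mul_dvd_mul (mul_dvd_mul (mul_dvd_mul (Dvd.dvd.mul_left (even_dvd h0 1) (Fintype.card F ^ 24)) (six_dvd h0 1))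
          (even_dvd h0 4)) (six_dvd h0 2)
        exact (by norm_num : 3 ^ 4 ∣ 3 * 9 * 3 * 9).trans this
    · exfalso
      obtain ⟨F, _, _, ⟨e⟩⟩ := h
      apply h81
      have hc := T.e6 F _ rfl
      rw [← Nat.card_congr e.toEquiv] at hc
      have hq : 1 < Fintype.card F := Fintype.one_lt_card
      by_cases h0 : Fintype.card F % 3 = 0
      · apply cancel 4 (c := Nat.gcd 3 (Fintype.card F - 1)) (nd_gcd (by omega))
        rw [hc]
        iterate 6 apply Dvd.dvd.mul_right
        exact (pow_dvd_pow_of_dvd (Nat.dvd_of_mod_eq_zero h0) 4).trans (pow_dvd_pow _ (by norm_num))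
      · have h1 : 3 * 3 ^ 4 ∣ 3 * Nat.card S := by
          have h2 : Nat.gcd 3 (Fintype.card F - 1) * Nat.card S ∣ 3 * Nat.card S :=
            mul_dvd_mul_right (Nat.gcd_dvd_left _ _) _
          refine Dvd.dvd.trans ?_ h2
          rw [hc]
          have := mul_dvd_mul (mul_dvd_mul (mul_dvd_mul (Dvd.dvd.mul_left (even_dvd h0 1) (Fintype.card F ^ 36))
            (six_dvd h0 1)) (even_dvd h0 4)) (six_dvd h0 2)
          refine ((by norm_num : 3 * 3 ^ 4 ∣ 3 * 9 * 3 * 9).trans this).trans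
            ⟨(Fintype.card F ^ 5 - 1) * (Fintype.card F ^ 9 - 1), by ring⟩
        exact Nat.dvd_of_mul_dvd_mul_left (by norm_num) h1
    · exfalso
      obtain ⟨F, _, _, ⟨e⟩⟩ := h
      apply h81
      have hc := T.e7 F _ rfl
      rw [← Nat.card_congr e.toEquiv] at hc
      apply cancel 4 (c := Nat.gcd 2 (Fintype.card F - 1)) (nd_gcd' (by norm_num))
      rw [hc]
      by_cases h0 : Fintype.card F % 3 = 0
      · iterate 7 apply Dvd.dvd.mul_right
        exact (pow_dvd_pow_of_dvd (Nat.dvd_of_mod_eq_zero h0) 4).trans (pow_dvd_pow _ (by norm_num))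
      · have := mul_dvd_mul (mul_dvd_mul (mul_dvd_mul (Dvd.dvd.mul_left (even_dvd h0 1) (Fintype.card F ^ 63))
            (six_dvd h0 1)) (even_dvd h0 4)) (even_dvd h0 5)
        exact (((by norm_num : 3 ^ 4 ∣ 3 * 9 * 3 * 3).trans this).trans
            ⟨(Fintype.card F ^ 12 - 1) * (Fintype.card F ^ 14 - 1) * (Fintype.card F ^ 18 - 1), by ring⟩)
    · exfalso
      obtain ⟨F, _, _, ⟨e⟩⟩ := h
      apply h81
      rw [Nat.card_congr e.toEquiv, T.e8 F _ rfl]
      by_cases h0 : Fintype.card F % 3 = 0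
      · iterate 8 apply Dvd.dvd.mul_right
        exact (pow_dvd_pow_of_dvd (Nat.dvd_of_mod_eq_zero h0) 4).trans (pow_dvd_pow _ (by norm_num))
      · have := mul_dvd_mul (mul_dvd_mul (Dvd.dvd.mul_left (even_dvd h0 1) (Fintype.card F ^ 120))
            (even_dvd h0 4)) (six_dvd h0 2)
        exact (((by norm_num : 3 ^ 4 ∣ 3 * 3 * 9).trans this).trans
            ⟨(Fintype.card F ^ 14 - 1) * (Fintype.card F ^ 18 - 1) * (Fintype.card F ^ 20 - 1) *
              (Fintype.card F ^ 24 - 1) * (Fintype.card F ^ 30 - 1), by ring⟩)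
    · exfalso
      obtain ⟨F, _, _, q, hq, hF, ⟨e⟩⟩ := h
      apply h81
      have hc := T.te6 F q hq hF
      rw [← Nat.card_congr e.toEquiv] at hc
      by_cases h0 : q % 3 = 0
      · apply cancel 4 (c := Nat.gcd 3 (q + 1)) (nd_gcd (by omega))
        rw [hc]
        iterate 6 apply Dvd.dvd.mul_right
        exact (pow_dvd_pow_of_dvd (Nat.dvd_of_mod_eq_zero h0) 4).trans (pow_dvd_pow _ (by norm_num))
      · have h1 : 3 * 3 ^ 4 ∣ 3 * Nat.card S := by
          have h2 : Nat.gcd 3 (q + 1) * Nat.card S ∣ 3 * Nat.card S :=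
            mul_dvd_mul_right (Nat.gcd_dvd_left _ _) _
          refine Dvd.dvd.trans ?_ h2
          rw [hc]
          have := mul_dvd_mul (mul_dvd_mul (mul_dvd_mul (Dvd.dvd.mul_left (even_dvd h0 1) (q ^ 36))
            (six_dvd h0 1)) (even_dvd h0 4)) (six_dvd h0 2)
          refine ((by norm_num : 3 * 3 ^ 4 ∣ 3 * 9 * 3 * 9).trans this).trans
            ⟨(q ^ 5 + 1) * (q ^ 9 + 1), by ring⟩
        exact Nat.dvd_of_mul_dvd_mul_left (by norm_num) h1
    · exfalso
      obtain ⟨F, _, _, q, hq, hF, ⟨e⟩⟩ := h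
      apply h81
      rw [Nat.card_congr e.toEquiv, T.td4 F q hq hF]
      by_cases h0 : q % 3 = 0
      · iterate 3 apply Dvd.dvd.mul_right
        exact (pow_dvd_pow_of_dvd (Nat.dvd_of_mod_eq_zero h0) 4).trans (pow_dvd_pow _ (by norm_num))
      · have h8 : 3 ∣ q ^ 8 + q ^ 4 + 1 := by
          have e8 := even_mod h0 4
          have e4 := even_mod h0 2
          norm_num at e8 e4
          omega
        have := mul_dvd_mul (mul_dvd_mul (Dvd.dvd.mul_left (even_dvd h0 1) (q ^ 12)) (six_dvd h0 1)) h8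
        exact (by norm_num : 3 ^ 4 ∣ 3 * 9 * 3).trans this
    · exfalso
      obtain ⟨F, _, _, m, hm, hF, ⟨e⟩⟩ := h
      rw [Nat.card_congr e.toEquiv, T.sz F m hm hF] at h27
      have hq : 2 ^ (2 * m + 1) % 3 = 2 := by
        rw [pow_succ, pow_mul, Nat.mul_mod, Nat.pow_mod]; norm_num
      have hq2 := sq_mod (q := 2 ^ (2 * m + 1)) (by omega)
      have h3 : ¬ 3 ∣ (2 ^ (2 * m + 1)) ^ 2 * (2 ^ (2 * m + 1) - 1) * ((2 ^ (2 * m + 1)) ^ 2 + 1) :=
        nd_mul (nd_mul (nd_pow (by omega)) (by omega)) (by omega)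
      exact h3 ((dvd_pow_self 3 (by norm_num)).trans h27)
    · exfalso
      obtain ⟨F, _, _, m, hm, hF, ⟨e⟩⟩ := h
      apply h81
      rw [Nat.card_congr e.toEquiv, T.ree F m hm hF]
      apply Dvd.dvd.mul_right
      apply Dvd.dvd.mul_right
      rw [← pow_mul]
      exact pow_dvd_pow 3 (by omega)
    · exfalso
      obtain ⟨F, _, _, m, hm, hF, ⟨e⟩⟩ := h
      exact h81 (tf4_num ((Nat.card_congr e.toEquiv).trans (T.tf4 F m hm hF)) h7)
    · rcases key .tits (by decide) h with h | h <;> cases h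
  · rcases h with h | h | h | h | h | h | h | h | h | h | h | h | h | h | h | h | h | h | h | h | h | h | h | h | h | h
    · rcases key .m11 (by decide) h with h | h <;> cases h
    · rcases key .m12 (by decide) h with h | h <;> cases h
    · rcases key .m22 (by decide) h with h | h <;> cases h
    · rcases key .m23 (by decide) h with h | h <;> cases h
    · exact Or.inr (Or.inr (Or.inr (Or.inr (Or.inl h))))
    · rcases key .j1 (by decide) h with h | h <;> cases h
    · rcases key .j2 (by decide) h with h | h <;> cases h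
    · rcases key .j3 (by decide) h with h | h <;> cases h
    · exact Or.inr (Or.inr (Or.inr (Or.inr (Or.inr h))))
    · rcases key .co1 (by decide) h with h | h <;> cases h
    · rcases key .co2 (by decide) h with h | h <;> cases h
    · rcases key .co3 (by decide) h with h | h <;> cases h
    · rcases key .mcl (by decide) h with h | h <;> cases h
    · rcases key .hs (by decide) h with h | h <;> cases h
    · rcases key .suz (by decide) h with h | h <;> cases h
    · rcases key .he (by decide) h with h | h <;> cases h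
    · rcases key .ru (by decide) h with h | h <;> cases h
    · rcases key .on (by decide) h with h | h <;> cases h
    · rcases key .ly (by decide) h with h | h <;> cases h
    · rcases key .fi22 (by decide) h with h | h <;> cases h
    · rcases key .fi23 (by decide) h with h | h <;> cases h
    · rcases key .fi24 (by decide) h with h | h <;> cases h
    · rcases key .hn (by decide) h with h | h <;> cases h
    · rcases key .th (by decide) h with h | h <;> cases h
    · rcases key .b (by decide) h with h | h <;> cases h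
    · rcases key .m (by decide) h with h | h <;> cases h

end Cfsg.Agent.H337.OrdElim
end

-- part: H337/MatCent
section
/-!
# Centralisers of elements of order 3 in `SL₂`, `SL₃`
-/

set_option autoImplicit false

namespace Cfsg.Agent.H337.MatCent

open Matrix

/-- the commutant of a nonscalar `2 × 2` matrix is commutative -/
theorem comm_two {F : Type*} [Field F] {A B C : Matrix (Fin 2) (Fin 2) F}
    (hA : ¬ ∃ c : F, A = c • 1) (hB : A * B = B * A) (hC : A * C = C * A) : B * C = C * B := by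
  have b00 := congrFun (congrFun hB 0) 0
  have b01 := congrFun (congrFun hB 0) 1
  have b10 := congrFun (congrFun hB 1) 0
  have c00 := congrFun (congrFun hC 0) 0
  have c01 := congrFun (congrFun hC 0) 1
  have c10 := congrFun (congrFun hC 1) 0
  simp only [Matrix.mul_apply, Fin.sum_univ_two] at b00 b01 b10 c00 c01 c10
  obtain ⟨a, ha⟩ : ∃ a, a = A 0 0 := ⟨_, rfl⟩
  obtain ⟨b, hb⟩ : ∃ b, b = A 0 1 := ⟨_, rfl⟩
  obtain ⟨c, hc⟩ : ∃ c, c = A 1 0 := ⟨_, rfl⟩
  obtain ⟨d, hd⟩ : ∃ d, d = A 1 1 := ⟨_, rfl⟩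
  rw [← ha, ← hb, ← hc] at b00 c00
  rw [← ha, ← hb, ← hd] at b01 c01
  rw [← ha, ← hc, ← hd] at b10 c10
  -- the three cross products vanish
  have key : B 0 1 * C 1 0 = C 0 1 * B 1 0 ∧ B 0 1 * (C 0 0 - C 1 1) = C 0 1 * (B 0 0 - B 1 1) ∧
      B 1 0 * (C 0 0 - C 1 1) = C 1 0 * (B 0 0 - B 1 1) := by
    by_cases h1 : b = 0
    · by_cases h2 : c = 0
      · have h3 : a - d ≠ 0 := by
          intro h3
          apply hA
          refine ⟨a, ?_⟩
          ext i j
          fin_cases i <;> fin_cases j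
          · simp [← ha]
          · simp [← hb, h1]
          · simp [← hc, h2]
          · simp only [Fin.mk_one, Fin.isValue, ← hd, Matrix.smul_apply, one_apply_eq, smul_eq_mul, mul_one]
            linear_combination -h3
        have e1 : B 0 1 = 0 := by
          apply mul_left_cancel₀ h3
          linear_combination b01 + h1 * (B 0 0 - B 1 1)
        have e2 : B 1 0 = 0 := by
          apply mul_left_cancel₀ h3
          linear_combination -b10 + h2 * (B 0 0 - B 1 1)
        have e3 : C 0 1 = 0 := by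
          apply mul_left_cancel₀ h3
          linear_combination c01 + h1 * (C 0 0 - C 1 1)
        have e4 : C 1 0 = 0 := by
          apply mul_left_cancel₀ h3
          linear_combination -c10 + h2 * (C 0 0 - C 1 1)
        rw [e1, e2, e3, e4]
        simp
      · refine ⟨?_, ?_, ?_⟩
        · apply mul_left_cancel₀ h2
          linear_combination (-1 : F) * b00 * C 1 0 + c00 * B 1 0
        · apply mul_left_cancel₀ h2
          linear_combination (-1 : F) * b00 * (C 0 0 - C 1 1) + c00 * (B 0 0 - B 1 1) + b * 0 + h1 * 0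
            + (B 1 0 * (C 0 0 - C 1 1) - C 1 0 * (B 0 0 - B 1 1)) * h1
        · apply mul_left_cancel₀ h2
          linear_combination B 1 0 * (c10) - C 1 0 * b10
    · have k2 : B 0 1 * (C 0 0 - C 1 1) = C 0 1 * (B 0 0 - B 1 1) := by
        apply mul_left_cancel₀ h1
        linear_combination (-1 : F) * B 0 1 * c01 + C 0 1 * b01
      refine ⟨?_, k2, ?_⟩
      · apply mul_left_cancel₀ h1
        linear_combination B 0 1 * c00 - C 0 1 * b00
      · apply mul_left_cancel₀ h1
        linear_combination b00 * (C 0 0 - C 1 1) - c00 * (B 0 0 - B 1 1) + c * k2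
  obtain ⟨k1, k2, k3⟩ := key
  ext i j
  fin_cases i <;> fin_cases j <;> simp only [Matrix.mul_apply, Fin.sum_univ_two, Fin.zero_eta, Fin.mk_one,
    Fin.isValue]
  · linear_combination k1
  · linear_combination -k2
  · linear_combination k3
  · linear_combination -k1

/-- the commutant of a matrix with distinct eigenvalues is commutative -/
theorem comm_of_eigen {n : Type*} [Fintype n] [DecidableEq n] {K : Type*} [Field K] {A B C : Matrix n n K}
    {l : n → K} (hl : Function.Injective l) {v : n → n → K} (hv : ∀ i, v i ≠ 0) (hA : ∀ i, A *ᵥ v i = l i • v i)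
    (hB : A * B = B * A) (hC : A * C = C * A) : B * C = C * B := by
  have hli : LinearIndependent K v := by
    apply Module.End.eigenvectors_linearIndependent' (Matrix.toLin' A) l hl v
    intro i
    refine ⟨Module.End.mem_eigenspace_iff.2 ?_, hv i⟩
    rw [Matrix.toLin'_apply, hA]
  set P : Matrix n n K := Matrix.of fun i j => v j i with hP
  have hu : IsUnit P := by
    rw [← Matrix.linearIndependent_cols_iff_isUnit]
    exact hli
  have hPd := (Matrix.isUnit_iff_isUnit_det P).1 hu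
  have hAP : A * P = P * Matrix.diagonal l := by
    ext i j
    rw [Matrix.mul_diagonal, Matrix.mul_apply]
    have := congrFun (hA j) i
    rw [Matrix.mulVec, dotProduct] at this
    simp only [hP, Matrix.of_apply]
    rw [this, Pi.smul_apply, smul_eq_mul, mul_comm]
  have key : ∀ X : Matrix n n K, A * X = X * A → ∃ d : n → K, X = P * Matrix.diagonal d * P⁻¹ := by
    intro X hX
    have h1 : Matrix.diagonal l * (P⁻¹ * X * P) = (P⁻¹ * X * P) * Matrix.diagonal l := by
      have h2 : Matrix.diagonal l = P⁻¹ * A * P := by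
        rw [Matrix.mul_assoc, hAP, ← Matrix.mul_assoc, Matrix.nonsing_inv_mul _ hPd, Matrix.one_mul]
      rw [h2]
      calc P⁻¹ * A * P * (P⁻¹ * X * P) = P⁻¹ * A * (P * P⁻¹) * X * P := by
            simp only [Matrix.mul_assoc]
        _ = P⁻¹ * (A * X) * P := by
            rw [Matrix.mul_nonsing_inv _ hPd]; simp only [Matrix.mul_assoc, Matrix.one_mul]
        _ = P⁻¹ * (X * A) * P := by rw [hX]
        _ = P⁻¹ * X * (P * P⁻¹) * A * P := by
            rw [Matrix.mul_nonsing_inv _ hPd]; simp only [Matrix.mul_assoc, Matrix.one_mul]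
        _ = P⁻¹ * X * P * (P⁻¹ * A * P) := by simp only [Matrix.mul_assoc]
    refine ⟨fun i => (P⁻¹ * X * P) i i, ?_⟩
    have h3 : P⁻¹ * X * P = Matrix.diagonal fun i => (P⁻¹ * X * P) i i := by
      ext i j
      by_cases hij : i = j
      · subst hij; rw [Matrix.diagonal_apply_eq]
      · rw [Matrix.diagonal_apply_ne _ hij]
        have h4 := congrFun (congrFun h1 i) j
        rw [Matrix.diagonal_mul, Matrix.mul_diagonal, mul_comm] at h4
        have h5 : (P⁻¹ * X * P) i j * (l i - l j) = 0 := by rw [mul_sub, h4, sub_self]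
        rcases mul_eq_zero.1 h5 with h6 | h6
        · exact h6
        · exact absurd (hl (sub_eq_zero.1 h6)) hij
    rw [← h3]
    calc X = (P * P⁻¹) * X * (P * P⁻¹) := by
          rw [Matrix.mul_nonsing_inv _ hPd, Matrix.one_mul, Matrix.mul_one]
      _ = P * (P⁻¹ * X * P) * P⁻¹ := by simp only [Matrix.mul_assoc]
  obtain ⟨d, hd⟩ := key B hB
  obtain ⟨e, he⟩ := key C hC
  have h7 : ∀ f g : n → K, P * Matrix.diagonal f * P⁻¹ * (P * Matrix.diagonal g * P⁻¹) =
      P * (Matrix.diagonal f * Matrix.diagonal g) * P⁻¹ := by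
    intro f g
    calc _ = P * Matrix.diagonal f * (P⁻¹ * P) * Matrix.diagonal g * P⁻¹ := by simp only [Matrix.mul_assoc]
      _ = _ := by rw [Matrix.nonsing_inv_mul _ hPd, Matrix.mul_one]; simp only [Matrix.mul_assoc]
  rw [hd, he, h7, h7, Matrix.diagonal_mul_diagonal, Matrix.diagonal_mul_diagonal]
  congr 3
  ext i
  rw [mul_comm]

open Polynomial in
theorem charpoly_three {F : Type*} [Field F] {A : Matrix (Fin 3) (Fin 3) F} (hd : A.det = 1) (h3 : A ^ 3 = 1)
    (hns : ¬ ∃ c : F, A = c • 1) : A.charpoly = X ^ 3 - 1 := by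
  have hn : A.charpoly.natDegree = 3 := by rw [Matrix.charpoly_natDegree_eq_dim, Fintype.card_fin]
  have hm := A.charpoly_monic
  have h0 : A.charpoly.coeff 0 = -1 := by
    have := Matrix.det_eq_sign_charpoly_coeff A
    rw [hd, Fintype.card_fin] at this
    linear_combination this
  have hl : A.charpoly.coeff 3 = 1 := by
    have := hm.coeff_natDegree
    rwa [hn] at this
  obtain ⟨a, ha⟩ : ∃ a, a = A.charpoly.coeff 2 := ⟨_, rfl⟩
  obtain ⟨b, hb⟩ : ∃ b, b = A.charpoly.coeff 1 := ⟨_, rfl⟩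
  have hp : A.charpoly = C (-1) + C b * X + C a * X ^ 2 + X ^ 3 := by
    conv_lhs => rw [A.charpoly.as_sum_range_C_mul_X_pow, hn]
    rw [Finset.sum_range_succ, Finset.sum_range_succ, Finset.sum_range_succ, Finset.sum_range_succ,
      Finset.sum_range_zero, h0, hl, ← ha, ← hb, map_one]
    ring
  have hc := Matrix.aeval_self_charpoly A
  rw [hp] at hc
  simp only [map_add, map_mul, aeval_C, aeval_X, map_pow] at hc
  rw [h3] at hc
  have h4 : b • A + a • A ^ 2 = 0 := by
    simp only [Algebra.algebraMap_eq_smul_one, Matrix.smul_mul, Matrix.one_mul, neg_smul, one_smul] at hc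
    rw [← hc]; abel
  have h5 : b • (1 : Matrix (Fin 3) (Fin 3) F) + a • A = 0 := by
    have h6 : (b • A + a • A ^ 2) * A ^ 2 = 0 := by rw [h4, Matrix.zero_mul]
    rw [Matrix.add_mul, Matrix.smul_mul, Matrix.smul_mul, ← pow_succ', ← pow_add] at h6
    rw [show A ^ (2 + 1) = 1 from h3, show A ^ (2 + 2) = A by rw [show 2 + 2 = 3 + 1 by norm_num, pow_succ, h3,
      Matrix.one_mul]] at h6
    exact h6
  have ha0 : a = 0 := by
    by_contra hne
    apply hns
    refine ⟨-(a⁻¹ * b), ?_⟩
    have h7 : a • A = -(b • (1 : Matrix (Fin 3) (Fin 3) F)) := by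
      rw [eq_neg_iff_add_eq_zero, add_comm]; exact h5
    calc A = a⁻¹ • (a • A) := by rw [smul_smul, inv_mul_cancel₀ hne, one_smul]
      _ = -(a⁻¹ * b) • 1 := by rw [h7, smul_neg, smul_smul, neg_smul]
  have hb0 : b = 0 := by
    rw [ha0, zero_smul, add_zero] at h5
    have := congrFun (congrFun h5 0) 0
    simpa using this
  rw [hp, ha0, hb0]
  simp only [map_neg, map_one, map_zero, zero_mul, add_zero]
  ring

/-- the commutant of a nonscalar `3 × 3` matrix of determinant 1 and order 3 is commutative -/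
theorem comm_three {F : Type*} [Field F] (h3F : (3 : F) ≠ 0) {A B C : Matrix (Fin 3) (Fin 3) F} (hd : A.det = 1)
    (h3 : A ^ 3 = 1) (hns : ¬ ∃ c : F, A = c • 1) (hB : A * B = B * A) (hC : A * C = C * A) : B * C = C * B := by
  let K := AlgebraicClosure F
  let f : F →+* K := algebraMap F K
  have hf : Function.Injective f := f.injective
  have h3K : (3 : K) ≠ 0 := by
    intro h
    apply h3F
    apply hf
    rw [map_zero, ← h]
    exact map_ofNat f 3
  have hch : (A.map f).charpoly = Polynomial.X ^ 3 - 1 := by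
    rw [Matrix.charpoly_map, charpoly_three hd h3 hns]
    simp
  obtain ⟨w, hw⟩ : ∃ w : K, w ^ 2 + w + 1 = 0 := by
    have hdeg : (Polynomial.X ^ 2 + Polynomial.X + 1 : Polynomial K).degree ≠ 0 := by
      have : (Polynomial.X ^ 2 + Polynomial.X + 1 : Polynomial K).degree = 2 := by compute_degree!
      rw [this]; decide
    obtain ⟨w, hw⟩ := IsAlgClosed.exists_root _ hdeg
    refine ⟨w, ?_⟩
    simpa only [Polynomial.IsRoot, _root_.Polynomial.eval_add, _root_.Polynomial.eval_pow, _root_.Polynomial.eval_X, _root_.Polynomial.eval_one] using hw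
  have hw3 : w ^ 3 = 1 := by linear_combination (w - 1) * hw
  have hw1 : w ≠ 1 := by
    intro h
    apply h3K
    rw [h] at hw
    linear_combination hw
  have hw0 : w ≠ 0 := by
    intro h
    rw [h] at hw
    simp at hw
  have hw2 : w ^ 2 ≠ 1 := by
    intro h
    apply h3K
    have h8 : w = -2 := by linear_combination hw - h
    rw [h8] at h
    linear_combination h
  have hww : w ^ 2 ≠ w := by
    intro h
    apply hw1
    apply mul_left_cancel₀ hw0
    linear_combination h
  let l : Fin 3 → K := ![1, w, w ^ 2]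
  have hl : Function.Injective l := by
    intro i j hij
    fin_cases i <;> fin_cases j <;> simp [l] at hij ⊢
    · exact hw1 hij.symm
    · exact hw2 hij.symm
    · exact hw1 hij
    · exact hww hij.symm
    · exact hw2 (by rcases hij with h | h <;> rw [h] <;> ring)
    · exact hww hij
  have hl3 : ∀ i, l i ^ 3 = 1 := by
    intro i
    fin_cases i
    · simp [l]
    · simpa only [l, _root_.Fin.mk_one, _root_.Fin.isValue, _root_.Matrix.cons_val_one, _root_.Matrix.cons_val_zero] using hw3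
    · simp only [l]
      show (w ^ 2) ^ 3 = 1
      rw [← pow_mul, mul_comm, pow_mul, hw3, one_pow]
  have hev : ∀ i, ∃ v : Fin 3 → K, v ≠ 0 ∧ (A.map f) *ᵥ v = l i • v := by
    intro i
    have h1 : (Matrix.scalar (Fin 3) (l i) - A.map f).det = 0 := by
      rw [← Matrix.eval_charpoly, hch]
      simp [hl3]
    obtain ⟨v, hv0, hv⟩ := Matrix.exists_mulVec_eq_zero_iff.2 h1
    refine ⟨v, hv0, ?_⟩
    rw [Matrix.sub_mulVec, sub_eq_zero] at hv
    rw [← hv]
    ext j
    simp [Matrix.scalar_apply, Matrix.mulVec_diagonal]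
  choose v hv0 hv using hev
  have key := comm_of_eigen hl hv0 hv (B := B.map f) (C := C.map f)
    (by rw [← Matrix.map_mul, hB, Matrix.map_mul]) (by rw [← Matrix.map_mul, hC, Matrix.map_mul])
  rw [← Matrix.map_mul, ← Matrix.map_mul] at key
  exact Matrix.map_injective hf key

end Cfsg.Agent.H337.MatCent
end

-- part: H337/LinElim
section
/-!
# Centralisers of elements of order 3 in `PSL₂(q)`, `PSL₃(q)` (`q ≡ 2 mod 3`), `PSU₃(q)` (`q ≡ 1 mod 3`)
are abelian.
-/

set_option autoImplicit false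

namespace Cfsg.Agent.H337.LinElim

open Cfsg Cfsg.Agent.H337.MatCent

/-- abelian centralisers of elements of order 3 -/
def AbCent (S : Type*) [Group S] : Prop :=
  ∀ x : S, x ^ 3 = 1 → x ≠ 1 → ∀ g h : S, g * x = x * g → h * x = x * h → g * h = h * g

theorem abCent_congr {S T : Type*} [Group S] [Group T] (e : S ≃* T) (h : AbCent T) : AbCent S := by
  intro x hx hx1 g k hg hk
  apply e.injective
  rw [map_mul, map_mul]
  apply h (e x) (by rw [← map_pow, hx, map_one]) (by rwa [Ne, map_eq_one_iff e e.injective])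
  · rw [← map_mul, hg, map_mul]
  · rw [← map_mul, hk, map_mul]

/-- the abstract quotient argument -/
theorem abCent_quot {M : Type*} [Group M] (hZ : ∀ z ∈ Subgroup.center M, z ^ 2 = 1)
    (hM : ∀ a : M, a ^ 3 = 1 → a ∉ Subgroup.center M → ∀ b c : M, a * b = b * a → a * c = c * a → b * c = c * b) :
    AbCent (M ⧸ Subgroup.center M) := by
  intro x hx hx1 g k hg hk
  obtain ⟨a, rfl⟩ := QuotientGroup.mk_surjective x
  obtain ⟨b, rfl⟩ := QuotientGroup.mk_surjective g
  obtain ⟨c, rfl⟩ := QuotientGroup.mk_surjective k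
  have h3 : a ^ 3 ∈ Subgroup.center M := by
    rw [← QuotientGroup.eq_one_iff, QuotientGroup.mk_pow, hx]
  obtain ⟨z, hz⟩ : ∃ z, z = a ^ 3 := ⟨_, rfl⟩
  rw [← hz] at h3
  have hcz : ∀ y : M, y * z = z * y := fun y => (Subgroup.mem_center_iff.1 h3 y)
  have ha' : (a * z) ^ 3 = 1 := by
    have : Commute a z := hcz a
    rw [this.mul_pow, ← hz, pow_succ, hZ z h3, one_mul]
    have := hZ z h3
    rwa [pow_two] at this
  have hnc : a * z ∉ Subgroup.center M := by
    intro h
    apply hx1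
    rw [QuotientGroup.eq_one_iff]
    have := mul_mem h (inv_mem h3)
    rwa [mul_inv_cancel_right] at this
  have key : ∀ y : M, (y : M ⧸ Subgroup.center M) * (a : M ⧸ Subgroup.center M) =
      (a : M ⧸ Subgroup.center M) * (y : M ⧸ Subgroup.center M) → (a * z) * y = y * (a * z) := by
    intro y hy
    have h4 : (y * a)⁻¹ * (a * y) ∈ Subgroup.center M := by
      rw [← QuotientGroup.eq_one_iff]
      rw [QuotientGroup.mk_mul, QuotientGroup.mk_inv, QuotientGroup.mk_mul, QuotientGroup.mk_mul, hy, inv_mul_cancel]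
    obtain ⟨w, hw⟩ : ∃ w, w = (y * a)⁻¹ * (a * y) := ⟨_, rfl⟩
    rw [← hw] at h4
    have hcw : ∀ y : M, y * w = w * y := fun y => (Subgroup.mem_center_iff.1 h4 y)
    have h5 : a * y = y * a * w := by rw [hw]; group
    -- `y⁻¹ (a z) y = a z w`
    have h6 : y⁻¹ * (a * z) * y = a * z * w := by
      calc y⁻¹ * (a * z) * y = y⁻¹ * (a * (z * y)) := by group
        _ = y⁻¹ * (a * (y * z)) := by rw [hcz]
        _ = y⁻¹ * (a * y) * z := by group
        _ = a * w * z := by rw [h5]; group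
        _ = a * z * w := by rw [mul_assoc, hcz, ← mul_assoc]
    have h7 : (a * z * w) ^ 3 = 1 := by
      rw [← h6]
      have : y⁻¹ * (a * z) * y = y⁻¹ * (a * z) * y⁻¹⁻¹ := by rw [inv_inv]
      rw [this, conj_pow, ha']; group
    have h8 : w = 1 := by
      have : Commute (a * z) w := hcw (a * z)
      rw [this.mul_pow, ha', one_mul, pow_succ, hZ w h4, one_mul] at h7
      exact h7
    rw [h8, mul_one] at h6
    calc a * z * y = y * (y⁻¹ * (a * z) * y) := by group
      _ = y * (a * z) := by rw [h6]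
  have h9 := hM (a * z) ha' hnc b c (key b hg) (key c hk)
  rw [← QuotientGroup.mk_mul, h9, QuotientGroup.mk_mul]

theorem scalar_mem_center {n : ℕ} {F : Type*} [Field F] {a : Matrix.SpecialLinearGroup (Fin n) F} {c : F}
    (h : (a : Matrix (Fin n) (Fin n) F) = c • 1) : a ∈ Subgroup.center (Matrix.SpecialLinearGroup (Fin n) F) := by
  rw [Subgroup.mem_center_iff]
  intro g
  apply Subtype.ext
  simp [h]

theorem coe_comm {n : ℕ} {F : Type*} [Field F] {a b : Matrix.SpecialLinearGroup (Fin n) F} :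
    a * b = b * a ↔ (a : Matrix (Fin n) (Fin n) F) * b = b * a := by
  rw [← Matrix.SpecialLinearGroup.coe_mul, ← Matrix.SpecialLinearGroup.coe_mul]
  exact ⟨fun h => congrArg _ h, fun h => Subtype.ext h⟩

theorem psl_two {F : Type*} [Field F] : AbCent (Matrix.ProjectiveSpecialLinearGroup (Fin 2) F) := by
  apply abCent_quot
  · intro z hz
    obtain ⟨r, hr, h⟩ := Matrix.SpecialLinearGroup.mem_center_iff.1 hz
    apply Subtype.ext
    rw [Matrix.SpecialLinearGroup.coe_pow, ← h, ← map_pow]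
    rw [Fintype.card_fin] at hr
    rw [hr, map_one]; rfl
  · intro a _ hns b c hb hc
    rw [coe_comm] at hb hc ⊢
    exact comm_two (fun ⟨c, hc⟩ => hns (scalar_mem_center hc)) hb hc

theorem three_ne {F : Type*} [Field F] [Fintype F] (h : Fintype.card F % 3 ≠ 0) : (3 : F) ≠ 0 := by
  intro h3
  apply h
  obtain ⟨p, hch⟩ := CharP.exists F
  obtain ⟨n, hp, hc⟩ := FiniteField.card F p
  have h4 : p ∣ 3 := by
    rw [← CharP.cast_eq_zero_iff F p 3]
    exact_mod_cast h3
  have h5 : p = 3 := (Nat.prime_dvd_prime_iff_eq hp Nat.prime_three).1 h4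
  rw [hc, h5]
  exact Nat.mod_eq_zero_of_dvd (dvd_pow_self 3 n.2.ne')

theorem psl_three {F : Type*} [Field F] [Fintype F] (hF : Fintype.card F % 3 = 2) :
    AbCent (Matrix.ProjectiveSpecialLinearGroup (Fin 3) F) := by
  apply abCent_quot
  · intro z hz
    obtain ⟨r, hr, h⟩ := Matrix.SpecialLinearGroup.mem_center_iff.1 hz
    rw [Fintype.card_fin] at hr
    have hr0 : r ≠ 0 := by
      rintro rfl
      simp at hr
    have h1 : r ^ (Fintype.card F - 1) = 1 := FiniteField.pow_card_sub_one_eq_one r hr0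
    have hr1 : r = 1 := by
      have h2 := orderOf_dvd_of_pow_eq_one hr
      have h3 := orderOf_dvd_of_pow_eq_one h1
      have h4 : Nat.Coprime 3 (Fintype.card F - 1) := by
        rw [Nat.Prime.coprime_iff_not_dvd Nat.prime_three]
        omega
      exact orderOf_eq_one_iff.1 (Nat.eq_one_of_dvd_coprimes h4 h2 h3)
    apply Subtype.ext
    rw [Matrix.SpecialLinearGroup.coe_pow, ← h, hr1, map_one, one_pow]; rfl
  · intro a h3 hns b c hb hc
    rw [coe_comm] at hb hc ⊢
    refine comm_three (three_ne (by omega)) a.2 ?_ (fun ⟨c, hc⟩ => hns (scalar_mem_center hc)) hb hc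
    rw [← Matrix.SpecialLinearGroup.coe_pow, h3]; rfl

theorem psu_three {F : Type*} [Field F] [Fintype F] {q : ℕ} (hF : Fintype.card F = q ^ 2) (hq : q % 3 = 1) :
    AbCent (PSU 3 F q) := by
  have hc1 := S0279.result hF 3 le_rfl
  have hg : Nat.gcd 3 (q + 1) = 1 := (Nat.Prime.coprime_iff_not_dvd Nat.prime_three).2 (by omega)
  rw [hg] at hc1
  have hbot : Subgroup.center (SU 3 F q) = ⊥ := Subgroup.card_eq_one.1 hc1
  apply abCent_quot
  · intro z hz
    rw [hbot, Subgroup.mem_bot] at hz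
    rw [hz, one_pow]
  · intro a h3 hns b c hb hc
    have h9 : Fintype.card F % 3 ≠ 0 := by
      rw [hF, Nat.pow_mod, hq]; norm_num
    have hb' : (a : Matrix.SpecialLinearGroup (Fin 3) F) * b = b * a := by
      exact_mod_cast congrArg Subtype.val hb
    have hc' : (a : Matrix.SpecialLinearGroup (Fin 3) F) * c = c * a := by
      exact_mod_cast congrArg Subtype.val hc
    apply Subtype.ext
    show (b : Matrix.SpecialLinearGroup (Fin 3) F) * c = c * b
    rw [coe_comm] at hb' hc' ⊢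
    refine comm_three (three_ne h9) a.1.2 ?_ ?_ hb' hc'
    · rw [← Matrix.SpecialLinearGroup.coe_pow]
      have : (a : Matrix.SpecialLinearGroup (Fin 3) F) ^ 3 = 1 := by
        exact_mod_cast congrArg Subtype.val h3
      rw [this]; rfl
    · rintro ⟨d, hd⟩
      apply hns
      rw [Subgroup.mem_center_iff]
      intro g
      apply Subtype.ext
      exact Subgroup.mem_center_iff.1 (scalar_mem_center hd) g

end Cfsg.Agent.H337.LinElim
end

-- part: H337/GTwoMat
section
/-!
# Two elements of order 3 in `G₂(q)` with different traces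
-/

set_option autoImplicit false

namespace Cfsg.Agent.H337.GTwoMat

open Cfsg Cfsg.Lie Cfsg.Agent.ClassificationK.GTwoChev Cfsg.Agent.ChevalleyStructure.SL2Hom

/-- the matrix `x_r(t)` over a commutative ring -/
def xR (R : Type*) [CommRing R] (r : Fin chevG2.nroots) (t : R) : Matrix chevG2.Idx chevG2.Idx R :=
  Matrix.of fun row col =>
    match col with
    | Sum.inl i =>
      (match row with
       | Sum.inl i' => if i' = i then 1 else 0
       | Sum.inr u => if u = r then - (((chevG2.cartanSR.getD i.val #[]).getD r.val 0 : ℤ) : R) * t else 0)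
    | Sum.inr s =>
      if s = r then (match row with | Sum.inr u => if u = r then 1 else 0 | Sum.inl _ => 0)
      else if s.val = chevG2.negIdx.getD r.val 0 then
        (match row with
         | Sum.inl i => (((chevG2.coroot.getD r.val #[]).getD i.val 0 : ℤ) : R) * t
         | Sum.inr u => if u = s then 1 else if u = r then -(t ^ 2) else 0)
      else
        (match row with
         | Sum.inl _ => 0
         | Sum.inr u => (if u = s then 1 else 0) +
             ((chevG2.chainCoeff r.val s.val u.val).map fun km => ((km.2 : ℤ) : R) * t ^ km.1).sum)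

theorem xR_eq (F : Type*) [Field F] (r : Fin chevG2.nroots) (t : F) : chevG2.xMat F r t = xR F r t := by
  ext row col
  unfold ChevalleyDatum.xMat xR
  rw [Matrix.of_apply, Matrix.of_apply]
  rcases col with i | s <;> rcases row with i' | u <;> rfl

theorem xR_map {R S : Type*} [CommRing R] [CommRing S] (f : R →+* S) (r : Fin chevG2.nroots) (t : R) :
    (xR R r t).map f = xR S r (f t) := by
  ext row col
  rw [Matrix.map_apply]
  unfold xR
  rw [Matrix.of_apply, Matrix.of_apply]
  rcases col with i | s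
  · rcases row with i' | u
    · simp only
      split_ifs <;> simp
    · simp only
      split_ifs <;> simp only [_root_.Array.getD_eq_getD_getElem?, _root_.neg_mul, _root_.map_neg, _root_.map_mul, _root_.map_intCast, _root_.map_zero]
  · simp only
    split_ifs
    · rcases row with i' | u
      · simp
      · simp only
        split_ifs <;> simp
    · rcases row with i' | u
      · simp only [_root_.Array.getD_eq_getD_getElem?, _root_.map_mul, _root_.map_intCast]
      · simp only
        split_ifs <;> simp only [_root_.map_one, _root_.map_neg, _root_.map_pow, _root_.map_zero]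
    · rcases row with i' | u
      · simp
      · simp only [map_add, map_list_sum, List.map_map]
        congr 1
        · split_ifs <;> simp
        · congr 1
          apply List.map_congr_left
          intro km _
          simp

variable {F : Type*} [Field F]

theorem x_eq (r : ℕ) (hr : r < chevG2.nroots) (n : ℤ) :
    chevG2.x F r (n : F) = (xR ℤ ⟨r, hr⟩ n).map (Int.castRingHom F) := by
  rw [xR_map]
  unfold ChevalleyDatum.x
  rw [dif_pos hr, xR_eq]
  rfl

/-- an element of order 3 of `SL₂` -/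
def y3 (F : Type*) [Field F] : Matrix.SpecialLinearGroup (Fin 2) F := lo 1 * up (-3)

theorem y3_cube : y3 F ^ 3 = 1 := by
  apply Subtype.ext
  rw [Matrix.SpecialLinearGroup.coe_pow]
  have h : ((y3 F : Matrix.SpecialLinearGroup (Fin 2) F) : Matrix (Fin 2) (Fin 2) F) = !![1, -3; 1, -2] := by
    unfold y3
    rw [Matrix.SpecialLinearGroup.coe_mul]
    show !![1, 0; 1, 1] * !![1, -3; 0, 1] = _
    simp only [Matrix.mul_fin_two]
    congr 1
    ext i j
    (revert i j; norm_num [_root_.Fin.forall_fin_succ])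
  rw [h, pow_succ, pow_two]
  simp only [Matrix.mul_fin_two]
  rw [Matrix.SpecialLinearGroup.coe_one, Matrix.one_fin_two]
  ext i j
  (revert i j; norm_num [_root_.Fin.forall_fin_succ])

/-- the integral matrices -/
def m11 : Matrix chevG2.Idx chevG2.Idx ℤ := xR ℤ ⟨0, by decide⟩ 1 * xR ℤ ⟨11, by decide⟩ (-3)
def m7 : Matrix chevG2.Idx chevG2.Idx ℤ := xR ℤ ⟨4, by decide⟩ 1 * xR ℤ ⟨7, by decide⟩ (-3)

theorem mat_y11 : mat (ph11 F (y3 F)) = m11.map (Int.castRingHom F) := by
  unfold y3 m11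
  rw [map_mul, mat_mul, m11u, m11l, Matrix.map_mul, ← x_eq, ← x_eq]
  norm_num

theorem mat_y7 : mat (ph7 F (y3 F)) = m7.map (Int.castRingHom F) := by
  unfold y3 m7
  rw [map_mul, mat_mul, m7u, m7l, Matrix.map_mul, ← x_eq, ← x_eq]
  norm_num

theorem tr11 : m11.trace = -1 := by decide +kernel
theorem tr7 : m7.trace = 5 := by decide +kernel
theorem ent11 : m11 (Sum.inr ⟨0, by decide⟩) (Sum.inr ⟨11, by decide⟩) = -1 := by decide +kernel
theorem ent7 : m7 (Sum.inr ⟨4, by decide⟩) (Sum.inr ⟨7, by decide⟩) = -1 := by decide +kernel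

theorem trace_map {n : Type*} [Fintype n] {R S : Type*} [CommRing R] [CommRing S] (f : R →+* S)
    (M : Matrix n n R) : (M.map f).trace = f M.trace := by
  simp only [Matrix.trace, _root_.Matrix.diag_apply, _root_.Matrix.map_apply, _root_.map_sum]

theorem trace11 : (mat (ph11 F (y3 F))).trace = -1 := by
  rw [mat_y11, trace_map, tr11]; simp only [_root_.Int.reduceNeg, _root_.eq_intCast, _root_.Int.cast_neg, _root_.Int.cast_one]

theorem trace7 : (mat (ph7 F (y3 F))).trace = 5 := by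
  rw [mat_y7, trace_map, tr7]; simp

theorem ne11 : ph11 F (y3 F) ≠ 1 := by
  intro h
  have h1 := mat_y11 (F := F)
  rw [h, mat_one] at h1
  have h2 := congrFun (congrFun h1 (Sum.inr ⟨0, by decide⟩)) (Sum.inr ⟨11, by decide⟩)
  rw [Matrix.map_apply, ent11, Matrix.one_apply_ne (by decide)] at h2
  simp only [_root_.Int.reduceNeg, _root_.eq_intCast, _root_.Int.cast_neg, _root_.Int.cast_one, _root_.zero_eq_neg, _root_.one_ne_zero] at h2

theorem ne7 : ph7 F (y3 F) ≠ 1 := by
  intro h
  have h1 := mat_y7 (F := F)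
  rw [h, mat_one] at h1
  have h2 := congrFun (congrFun h1 (Sum.inr ⟨4, by decide⟩)) (Sum.inr ⟨7, by decide⟩)
  rw [Matrix.map_apply, ent7, Matrix.one_apply_ne (by decide)] at h2
  simp only [_root_.Int.reduceNeg, _root_.eq_intCast, _root_.Int.cast_neg, _root_.Int.cast_one, _root_.zero_eq_neg, _root_.one_ne_zero] at h2

theorem ord11 : orderOf (ph11 F (y3 F)) = 3 := by
  have : Fact (Nat.Prime 3) := ⟨Nat.prime_three⟩
  exact orderOf_eq_prime (by rw [← map_pow, y3_cube, map_one]) ne11

theorem ord7 : orderOf (ph7 F (y3 F)) = 3 := by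
  have : Fact (Nat.Prime 3) := ⟨Nat.prime_three⟩
  exact orderOf_eq_prime (by rw [← map_pow, y3_cube, map_one]) ne7

/-- the two elements are not conjugate in characteristic ≠ 2, 3 -/
theorem not_isConj (h2 : (2 : F) ≠ 0) (h3 : (3 : F) ≠ 0) : ¬ IsConj (ph11 F (y3 F)) (ph7 F (y3 F)) := by
  intro h
  obtain ⟨c, hc⟩ := isConj_iff.1 h
  have h1 : mat c * mat (ph11 F (y3 F)) * mat c⁻¹ = mat (ph7 F (y3 F)) := by
    rw [← mat_mul, ← mat_mul, hc]
  have h4 : (mat (ph11 F (y3 F))).trace = (mat (ph7 F (y3 F))).trace := by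
    rw [← h1, Matrix.mul_assoc, Matrix.trace_mul_comm, Matrix.mul_assoc, ← mat_mul, inv_mul_cancel, mat_one,
      Matrix.mul_one]
  rw [trace11, trace7] at h4
  have h5 : (2 : F) * 3 = 0 := by linear_combination -h4
  rcases mul_eq_zero.1 h5 with h | h
  · exact h2 h
  · exact h3 h

theorem up11_injective : Function.Injective fun t : F => ph11 F (up t) := by
  intro s t h
  have h1 : mat (ph11 F (up s)) = mat (ph11 F (up t)) := congrArg mat h
  rw [m11u, m11u] at h1
  have key : ∀ t : F, chevG2.x F 11 t (Sum.inl ⟨0, by decide⟩) (Sum.inr ⟨0, by decide⟩) = t := by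
    intro t
    unfold ChevalleyDatum.x
    rw [dif_pos (by decide)]
    show (if ((⟨0, by decide⟩ : Fin chevG2.nroots) = ⟨11, by decide⟩) then (0 : F) else
      if (0 : ℕ) = chevG2.negIdx.getD 11 0 then
        (((chevG2.coroot.getD 11 #[]).getD 0 0 : ℤ) : F) * t else 0) = t
    rw [if_neg (by decide), if_pos (by decide)]
    have : (chevG2.coroot.getD 11 #[]).getD 0 0 = 1 := by decide
    rw [this]; simp
  rw [← key s, h1, key t]

/-- diagonal elements -/
def dg (l : Fˣ) : Matrix.SpecialLinearGroup (Fin 2) F := ⟨!![(l : F), 0; 0, ((l⁻¹ : Fˣ) : F)], by simp⟩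

theorem dg_mul (l m : Fˣ) : dg l * dg m = dg (l * m) := by
  apply Subtype.ext
  rw [Matrix.SpecialLinearGroup.coe_mul]
  unfold dg
  simp only [Matrix.mul_fin_two]
  ext i j
  (revert i j; simp [mul_comm, _root_.Fin.forall_fin_succ])

theorem dg_one : dg (1 : Fˣ) = 1 := by
  apply Subtype.ext
  rw [Matrix.SpecialLinearGroup.coe_one, Matrix.one_fin_two]
  simp [dg]

theorem dg_pow (l : Fˣ) (n : ℕ) : dg l ^ n = dg (l ^ n) := by
  induction n with
  | zero => rw [pow_zero, pow_zero, dg_one]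
  | succ n ih => rw [pow_succ, pow_succ, ih, dg_mul]

theorem dg_up (l : Fˣ) (t : F) : dg l * up t = up ((l : F) ^ 2 * t) * dg l := by
  apply Subtype.ext
  rw [Matrix.SpecialLinearGroup.coe_mul, Matrix.SpecialLinearGroup.coe_mul]
  unfold dg up
  simp only [Matrix.mul_fin_two]
  ext i j
  (revert i j; simp only [pow_two, _root_.Fin.forall_fin_succ, _root_.mul_one, _root_.MulZeroClass.mul_zero, _root_.add_zero, _root_.Units.val_inv_eq_inv_val, _root_.MulZeroClass.zero_mul, _root_.zero_add, _root_.Matrix.of_apply, _root_.Matrix.cons_val', _root_.Matrix.cons_val_fin_one, _root_.one_mul, Fin.isValue, _root_.Matrix.cons_val_zero, _root_.Matrix.cons_val_succ, _root_.forall_const, _root_.implies_true, _root_.and_true, _root_.true_and]) <;> (repeat' with_reducible apply And.intro)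
  field_simp

theorem ph11_dg_ne {l : Fˣ} (h : (l : F) ^ 2 ≠ 1) : ph11 F (dg l) ≠ 1 := by
  intro h1
  apply h
  have h2 := congrArg (ph11 F) (dg_up l 1)
  rw [map_mul, map_mul, h1, one_mul, mul_one] at h2
  have h3 := up11_injective h2
  rw [mul_one] at h3
  exact h3.symm

end Cfsg.Agent.H337.GTwoMat
end

-- part: H337/GTwoElim
section
/-!
# Elimination of `G₂(q)`: one class of elements of order 3, small centralisers
-/

set_option autoImplicit false

namespace Cfsg.Agent.H337.GTwoElim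

open Cfsg Cfsg.Lie Cfsg.Agent.ClassificationK.GTwoChev Cfsg.Agent.ChevalleyStructure.SL2Hom
open Cfsg.Agent.H337.GTwoMat

variable {F : Type} [Field F] [Fintype F]

/-- the image of the long root `SL₂` centralises the element of order 3 of the short root `SL₂` -/
noncomputable def toC (F : Type) [Field F] : Matrix.SpecialLinearGroup (Fin 2) F →*
    Subgroup.centralizer ({ph7 F (y3 F)} : Set ↥(chevG2.group F)) :=
  (ph11 F).codRestrict _ (fun g => Subgroup.mem_centralizer_singleton_iff.2 (_root_.Cfsg.Agent.ClassificationK.GTwoChev.comm g (y3 F)))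

instance finG : Finite ↥(chevG2.group F) :=
  Finite.of_injective (fun g => mat g) mat_injective

theorem card_dvd : Nat.card F ∣ Nat.card (Subgroup.centralizer ({ph7 F (y3 F)} : Set ↥(chevG2.group F))) := by
  have hup : ∀ s t : F, up s * up t = up (s + t) := by
    intro s t
    apply Subtype.ext
    rw [Matrix.SpecialLinearGroup.coe_mul]
    show !![1, s; 0, 1] * !![1, t; 0, 1] = !![1, s + t; 0, 1]
    simp only [Matrix.mul_fin_two]
    ext i j
    (revert i j; simp [add_comm, _root_.Fin.forall_fin_succ])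
  let f : Multiplicative F →* Subgroup.centralizer ({ph7 F (y3 F)} : Set ↥(chevG2.group F)) :=
    { toFun := fun t => toC F (up t.toAdd)
      map_one' := by
        have : up (Multiplicative.toAdd (1 : Multiplicative F)) = 1 := by
          apply Subtype.ext
          rw [Matrix.SpecialLinearGroup.coe_one, Matrix.one_fin_two]; rfl
        rw [this, map_one]
      map_mul' := by
        intro s t
        rw [← map_mul, hup]; rfl }
  have hf : Function.Injective f := by
    intro s t h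
    have h1 : ph11 F (up s.toAdd) = ph11 F (up t.toAdd) := congrArg Subtype.val h
    exact Multiplicative.toAdd.injective (up11_injective h1)
  have h2 := Subgroup.card_dvd_of_injective f hf
  rwa [Nat.card_congr (Multiplicative.toAdd (α := F))] at h2

theorem thirtyone_dvd (hF : Fintype.card F = 32) :
    31 ∣ Nat.card (Subgroup.centralizer ({ph7 F (y3 F)} : Set ↥(chevG2.group F))) := by
  have hu : Nat.card Fˣ = 31 := by
    rw [Nat.card_units, Nat.card_eq_fintype_card, hF]
  obtain ⟨l, hl⟩ : ∃ l : Fˣ, l ≠ 1 := by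
    by_contra hcon
    push Not at hcon
    have : Subsingleton Fˣ := ⟨fun a b => by rw [hcon a, hcon b]⟩
    rw [Nat.card_of_subsingleton (1 : Fˣ)] at hu
    omega
  have h31 : l ^ 31 = 1 := by rw [← hu]; exact pow_card_eq_one'
  have p31 : Fact (Nat.Prime 31) := ⟨by norm_num⟩
  have hl2 : (l : F) ^ 2 ≠ 1 := by
    intro h
    apply hl
    have h2 : l ^ 2 = 1 := Units.ext (by simpa only [_root_.Units.val_pow_eq_pow_val, _root_.Units.val_one, _root_.sq_eq_one_iff, _root_.Units.val_eq_one, _root_.Units.val_eq_neg_one] using h)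
    calc l = l ^ (31 - 2 * 15) := by norm_num
      _ = 1 := by
        have : l ^ 31 = (l ^ 2) ^ 15 * l := by rw [← pow_mul, ← pow_succ]
        rw [h2, one_pow, one_mul, h31] at this
        norm_num
        exact this.symm
  have h1 : toC F (dg l) ≠ 1 := by
    intro h
    exact ph11_dg_ne hl2 (congrArg Subtype.val h)
  have h2 : orderOf (toC F (dg l)) = 31 := orderOf_eq_prime (by
    rw [← map_pow, dg_pow, h31, dg_one, map_one]) h1
  rw [← h2]
  exact orderOf_dvd_natCard _

theorem isConj_map {S T : Type*} [Group S] [Group T] (e : S ≃* T) {a b : S} (h : IsConj a b) :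
    IsConj (e a) (e b) := e.toMonoidHom.map_isConj h

theorem card_cent {S T : Type*} [Group S] [Group T] (e : S ≃* T) (x : S) :
    Nat.card (Subgroup.centralizer ({x} : Set S)) = Nat.card (Subgroup.centralizer ({e x} : Set T)) := by
  apply Nat.card_congr
  refine ⟨fun g => ⟨e g, ?_⟩, fun g => ⟨e.symm g, ?_⟩, ?_, ?_⟩
  · have := Subgroup.mem_centralizer_singleton_iff.1 g.2
    apply Subgroup.mem_centralizer_singleton_iff.2
    rw [← map_mul, this, map_mul]
  · have := Subgroup.mem_centralizer_singleton_iff.1 g.2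
    apply Subgroup.mem_centralizer_singleton_iff.2
    apply e.injective
    rw [map_mul, map_mul, e.apply_symm_apply, this]
  · intro g; apply Subtype.ext; exact e.symm_apply_apply _
  · intro g; apply Subtype.ext; exact e.apply_symm_apply _

/-- **Elimination of `G₂(q)`.** -/
theorem elim {S : Type*} [Group S] (h3 : Fintype.card F % 3 ≠ 0) (h1 : 3 ≤ Fintype.card F)
    (hcard : Nat.card ↥(Lie.chevG2.group F) =
      Fintype.card F ^ 6 * (Fintype.card F ^ 2 - 1) * (Fintype.card F ^ 6 - 1))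
    (e : S ≃* ↥(chevG2.group F))
    (hcl : ∀ x y : S, orderOf x = 3 → orderOf y = 3 → IsConj x y)
    (hC : ∀ x : S, orderOf x = 3 → Nat.card (Subgroup.centralizer ({x} : Set S)) ∣ 2661120)
    (h11 : 11 ∣ Nat.card S) : False := by
  have h3F : (3 : F) ≠ 0 := by
    intro h
    apply h3
    obtain ⟨p, hch⟩ := CharP.exists F
    obtain ⟨n, hp, hc⟩ := FiniteField.card F p
    have h4 : p ∣ 3 := by
      rw [← CharP.cast_eq_zero_iff F p 3]
      exact_mod_cast h
    have h5 : p = 3 := (Nat.prime_dvd_prime_iff_eq hp Nat.prime_three).1 h4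
    rw [hc, h5]
    exact Nat.mod_eq_zero_of_dvd (dvd_pow_self 3 n.2.ne')
  have h2 : (2 : F) = 0 := by
    by_contra h2
    apply not_isConj h2 h3F
    have h6 := hcl (e.symm (ph11 F (y3 F))) (e.symm (ph7 F (y3 F))) (by rw [MulEquiv.orderOf_eq, ord11])
      (by rw [MulEquiv.orderOf_eq, ord7])
    have h7 := isConj_map e h6
    rwa [e.apply_symm_apply, e.apply_symm_apply] at h7
  have hd : Nat.card (Subgroup.centralizer ({ph7 F (y3 F)} : Set ↥(chevG2.group F))) ∣ 2661120 := by
    have h6 := hC (e.symm (ph7 F (y3 F))) (by rw [MulEquiv.orderOf_eq, ord7])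
    rwa [card_cent e, e.apply_symm_apply] at h6
  -- the order of the field is `2 ^ a`
  obtain ⟨a, ha⟩ : ∃ a : ℕ, Fintype.card F = 2 ^ a := by
    obtain ⟨p, hch⟩ := CharP.exists F
    obtain ⟨n, hp, hc⟩ := FiniteField.card F p
    have h4 : p ∣ 2 := by
      rw [← CharP.cast_eq_zero_iff F p 2]
      exact_mod_cast h2
    have h5 : p = 2 := (Nat.prime_dvd_prime_iff_eq hp Nat.prime_two).1 h4
    exact ⟨n, by rw [hc, h5]⟩
  have h8 : 2 ^ a ∣ 2661120 := by
    rw [← ha, ← Nat.card_eq_fintype_card]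
    exact card_dvd.trans hd
  have ha8 : a < 9 := by
    by_contra hcon
    have h9 : 2 ^ 9 ∣ 2661120 := (pow_dvd_pow 2 (by omega)).trans h8
    revert h9
    decide
  rw [Nat.card_congr e.toEquiv, hcard, ha] at h11
  rw [ha] at h1
  have h5 : a = 5 := by
    interval_cases a <;> first | rfl | (exfalso; revert h11; decide) | (exfalso; revert h1; decide)
  subst h5
  have h31 := (thirtyone_dvd (F := F) (by rw [ha]; norm_num)).trans hd
  revert h31
  decide

end Cfsg.Agent.H337.GTwoElim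
end

-- part: H337/SimpleCase
section
/-!
# The known simple groups with an element of order 3 whose centraliser is `3·M22` or `6·M22`, and one class of
elements of order 3
-/

set_option autoImplicit false

namespace Cfsg.Agent.H337.SimpleCase

open Cfsg Cfsg.Agent.OrdDiv Cfsg.Agent.H337.ThreeCent Cfsg.Agent.H337.ThreeGroup

universe u

section

variable {G : Type u} [Group G] [Finite G] {x : G}

theorem card_dvd_of_ext (E : _root_.Cfsg.Agent.H337.ThreeCent.Ext (xC x)) : Nat.card (Subgroup.centralizer ({x} : Set G)) ∣ 2661120 := by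
  rw [E.card_C]
  rcases E.card with h | h <;> rw [h] <;> norm_num

theorem cent_conj {a b : G} (h : IsConj a b) :
    Nat.card (Subgroup.centralizer ({a} : Set G)) = Nat.card (Subgroup.centralizer ({b} : Set G)) := by
  obtain ⟨c, hc⟩ := isConj_iff.1 h
  have := GTwoElim.card_cent (MulAut.conj c) a
  rw [this, MulAut.conj_apply, hc]

theorem dvd_of_ext (E : _root_.Cfsg.Agent.H337.ThreeCent.Ext (xC x)) {n : ℕ} (hn : n ∣ 443520) : n ∣ Nat.card G := by
  have h1 : n ∣ Nat.card (Subgroup.centralizer ({x} : Set G)) := by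
    rw [E.card_C]; exact Dvd.dvd.mul_right hn _
  exact h1.trans (Subgroup.card_subgroup_dvd_card _)

theorem factorization (E : _root_.Cfsg.Agent.H337.ThreeCent.Ext (xC x)) : (Nat.card G).factorization 3 = 3 := by
  have h3 : Fact (Nat.Prime 3) := ⟨Nat.prime_three⟩
  obtain ⟨T⟩ : Nonempty (Sylow 3 (Subgroup.centralizer ({x} : Set G))) := inferInstance
  obtain ⟨S, hS⟩ := exists_sylow E T
  have h1 : Nat.card (S : Subgroup G) = 27 := by
    rw [hS, T0, Nat.card_congr (Subgroup.equivMapOfInjective _ _ (Subgroup.subtype_injective _)).toEquiv.symm]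
    exact E.card_sylow T
  rw [S.card_eq_multiplicity, show 27 = 3 ^ 3 by norm_num] at h1
  exact Nat.pow_right_injective (le_refl 2 |>.trans (by norm_num)) h1

theorem dvd27 (E : _root_.Cfsg.Agent.H337.ThreeCent.Ext (xC x)) : 3 ^ 3 ∣ Nat.card G := by
  have h := Nat.ordProj_dvd (Nat.card G) 3
  rwa [factorization E] at h

theorem not81 (E : _root_.Cfsg.Agent.H337.ThreeCent.Ext (xC x)) : ¬ 3 ^ 4 ∣ Nat.card G := by
  intro h
  have := (Nat.Prime.pow_dvd_iff_le_factorization Nat.prime_three (Nat.card_pos (α := G)).ne').1 h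
  rw [factorization E] at this
  omega

/-- the centraliser of an element of order 3 is not abelian -/
theorem not_abCent (E : _root_.Cfsg.Agent.H337.ThreeCent.Ext (xC x)) (h : LinElim.AbCent G) : False := by
  have h3 : Fact (Nat.Prime 3) := ⟨Nat.prime_three⟩
  obtain ⟨T⟩ : Nonempty (Sylow 3 (Subgroup.centralizer ({x} : Set G))) := inferInstance
  apply E.not_comm T
  refine ⟨⟨fun a b => ?_⟩⟩
  apply Subtype.ext
  apply Subtype.ext
  exact h x (cube E) (ne_one E) _ _ (Subgroup.mem_centralizer_singleton_iff.1 a.1.2)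
    (Subgroup.mem_centralizer_singleton_iff.1 b.1.2)

theorem exists_eleven (E : _root_.Cfsg.Agent.H337.ThreeCent.Ext (xC x)) : ∃ w : G, w ^ 11 = 1 ∧ w ≠ 1 ∧ x * w = w * x := by
  have p11 : Fact (Nat.Prime 11) := ⟨by norm_num⟩
  have h1 : 11 ∣ Nat.card (Subgroup.centralizer ({x} : Set G)) := by
    rw [E.card_C]; exact Dvd.dvd.mul_right (by norm_num) _
  obtain ⟨w, hw⟩ := exists_prime_orderOf_dvd_card' 11 h1
  refine ⟨w, ?_, ?_, (Subgroup.mem_centralizer_singleton_iff.1 w.2).symm⟩
  · have : w ^ 11 = 1 := by rw [← hw]; exact pow_orderOf_eq_one w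
    exact_mod_cast congrArg Subtype.val this
  · intro h
    have : w = 1 := Subtype.ext h
    rw [this, orderOf_one] at hw
    omega

omit [Finite G] in
theorem ext_mk (hx : orderOf x = 3)
    (hperf : ⁅(⊤ : Subgroup ↥(Subgroup.centralizer ({x} : Set G))),
      (⊤ : Subgroup ↥(Subgroup.centralizer ({x} : Set G)))⁆ = ⊤)
    (hZ : IsCyclic ↥(Subgroup.center ↥(Subgroup.centralizer ({x} : Set G))))
    (hZc : Nat.card ↥(Subgroup.center ↥(Subgroup.centralizer ({x} : Set G))) = 3 ∨
      Nat.card ↥(Subgroup.center ↥(Subgroup.centralizer ({x} : Set G))) = 6)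
    (e : ↥(Subgroup.centralizer ({x} : Set G)) ⧸ Subgroup.center ↥(Subgroup.centralizer ({x} : Set G)) ≃*
      ↥Cfsg.Spor.M22) : _root_.Cfsg.Agent.H337.ThreeCent.Ext (xC x) where
  ox := by rw [← hx]; exact Subgroup.orderOf_mk x _
  cent := xC_mem_center x
  perf := hperf
  cyc := hZ
  card := hZc
  quot := ⟨e⟩

/-- **The simple case.** -/
theorem isoJ4 (T : OrderTable.{u}) (hK : IsKnownSimple' G) (E : _root_.Cfsg.Agent.H337.ThreeCent.Ext (xC x))
    (hcl : ∀ y z : G, orderOf y = 3 → orderOf z = 3 → IsConj y z) : Spor.IsoJ4 G := by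
  have hna : ¬ ∀ a b : G, a * b = b * a := by
    intro h
    exact not_abCent E (fun _ _ _ g k _ _ => h g k)
  rcases OrdElim.elim T hK hna (dvd27 E) (not81 E) (dvd_of_ext E (by norm_num)) (dvd_of_ext E (by norm_num)) with
    ⟨F, _, _, ⟨e⟩⟩ | ⟨F, _, _, hF, ⟨e⟩⟩ | ⟨F, _, _, q, hF, hq, ⟨e⟩⟩ | ⟨F, _, _, h1, hF, ⟨e⟩⟩ | h | h
  · exact (not_abCent E (LinElim.abCent_congr e LinElim.psl_two)).elim
  · exact (not_abCent E (LinElim.abCent_congr e (LinElim.psl_three hF))).elim
  · exact (not_abCent E (LinElim.abCent_congr e (LinElim.psu_three hF hq))).elim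
  · refine (GTwoElim.elim hF h1 (T.g2 F) e hcl ?_ (dvd_of_ext E (by norm_num))).elim
    intro y hy
    rw [← cent_conj (hcl x y (ox E) hy)]
    exact card_dvd_of_ext E
  · obtain ⟨w, hw, hw1, hc⟩ := exists_eleven E
    exact (ne_one E (MTwentyFour.elim h (cube E) hw hw1 hc)).elim
  · exact h

end

end Cfsg.Agent.H337.SimpleCase
end

private theorem dce_7a8ac38b2fc5 : _root_.True := by
  try have : _root_.True := by simp only [_root_.Cfsg.Agent.H337.ThreeGroup.xC.eq_1]
  try have : _root_.True := by simp only [_root_.Cfsg.Agent.H337.GTwoMat.dg.eq_1]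
  try have : _root_.True := by simp only [_root_.Cfsg.Agent.H337.ThreeGroup.T0.eq_1]
  exact _root_.True.intro
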