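import Cfsg.Agent.S0058
import Cfsg.Agent.H337.SimpleCase
import Cfsg.Prelude.Def_JankoFourType
import Cfsg.Agent.H337.JankoOfIso
import Cfsg.Agent.FastGrp
import Cfsg.Agent.Prune
set_option linter.all false
prune_inst 0x7f00000000000000000000000000000000000000000000000000000000000000000000000000000000000000000000000000000000000000000000000000000000000000000000000000000000000000003fffffffffffffffffffffffffffbeffbdffffffff
open scoped Cfsg.Agent.FastGrp

-- part: H337/GenCase
section
/-!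
# Reduction of the general case to the simple case
-/

set_option autoImplicit false

namespace Cfsg.Agent.H337.GenCase

open Cfsg Cfsg.Agent.H337.ThreeCent Cfsg.Agent.H337.ThreeGroup

/-! ### the central extension -/

section

variable {C : Type*} [Group C] [Finite C] {x : C}

omit [Finite C] in
theorem simple_quot (E : _root_.Cfsg.Agent.H337.ThreeCent.Ext x) : IsSimpleGroup (C ⧸ Subgroup.center C) := by
  obtain ⟨e⟩ := E.quot
  have := Cfsg.Agent.SporadicA.MathieuRecog.simple_M22
  have : Nontrivial (C ⧸ Subgroup.center C) := e.toEquiv.nontrivial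
  exact IsSimpleGroup.isSimpleGroup_of_surjective e.symm.toMonoidHom e.symm.surjective

omit [Finite C] in
/-- a normal subgroup is central or everything -/
theorem normal (E : _root_.Cfsg.Agent.H337.ThreeCent.Ext x) (M : Subgroup C) (hM : M.Normal) : M ≤ Subgroup.center C ∨ M = ⊤ := by
  have hs := simple_quot E
  have h1 : (M.map (QuotientGroup.mk' (Subgroup.center C))).Normal :=
    hM.map _ (QuotientGroup.mk'_surjective _)
  rcases h1.eq_bot_or_eq_top with h | h
  · left
    rw [Subgroup.map_eq_bot_iff, QuotientGroup.ker_mk'] at h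
    exact h
  · right
    rw [← top_le_iff, ← E.perf, commutator_def, Subgroup.commutator_le]
    have key : ∀ a : C, ∃ m ∈ M, ∃ z ∈ Subgroup.center C, a = m * z := by
      intro a
      have h2 : (QuotientGroup.mk' (Subgroup.center C)) a ∈ M.map (QuotientGroup.mk' (Subgroup.center C)) := by
        rw [h]; exact Subgroup.mem_top _
      obtain ⟨m, hm, hma⟩ := h2
      refine ⟨m, hm, m⁻¹ * a, ?_, by group⟩
      rw [← QuotientGroup.ker_mk' (Subgroup.center C), MonoidHom.mem_ker, map_mul, map_inv, hma]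
      exact inv_mul_cancel _
    intro a _ b _
    obtain ⟨m, hm, z, hz, rfl⟩ := key a
    obtain ⟨n, hn, w, hw, rfl⟩ := key b
    have hz' := Subgroup.mem_center_iff.1 hz
    have hw' := Subgroup.mem_center_iff.1 hw
    have h3 : m * z * (n * w) * (m * z)⁻¹ * (n * w)⁻¹ = m * n * m⁻¹ * n⁻¹ := by
      have e1 : m * z * (n * w) = m * n * (z * w) := by
        calc m * z * (n * w) = m * (z * n) * w := by group
          _ = m * (n * z) * w := by rw [hz']
          _ = m * n * (z * w) := by group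
      have e2 : (m * z)⁻¹ * (n * w)⁻¹ = m⁻¹ * n⁻¹ * (z * w)⁻¹ := by
        have e3 : (n * w) * (m * z) = (z * w) * (n * m) := by
          calc (n * w) * (m * z) = n * (w * m) * z := by group
            _ = n * (m * w) * z := by rw [← hw' m]
            _ = n * m * w * z := by group
            _ = z * (n * m * w) := by rw [hz']
            _ = z * (w * (n * m)) := by rw [hw']
            _ = (z * w) * (n * m) := by group
        calc (m * z)⁻¹ * (n * w)⁻¹ = ((n * w) * (m * z))⁻¹ := by group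
          _ = ((z * w) * (n * m))⁻¹ := by rw [e3]
          _ = m⁻¹ * n⁻¹ * (z * w)⁻¹ := by group
      have hzw : ∀ g : C, g * (z * w) = (z * w) * g := fun g =>
        Subgroup.mem_center_iff.1 (mul_mem hz hw) g
      calc m * z * (n * w) * (m * z)⁻¹ * (n * w)⁻¹ = (m * z * (n * w)) * ((m * z)⁻¹ * (n * w)⁻¹) := by group
        _ = m * n * (z * w) * (m⁻¹ * n⁻¹ * (z * w)⁻¹) := by rw [e1, e2]
        _ = m * n * ((z * w) * (m⁻¹ * n⁻¹)) * (z * w)⁻¹ := by group
        _ = m * n * ((m⁻¹ * n⁻¹) * (z * w)) * (z * w)⁻¹ := by rw [hzw]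
        _ = m * n * m⁻¹ * n⁻¹ := by group
    rw [commutatorElement_def, h3]
    exact mul_mem (mul_mem (mul_mem hm hn) (inv_mem hm)) (inv_mem hn)

/-- the Sylow 3-subgroups have exponent 3 -/
theorem exp3 (E : _root_.Cfsg.Agent.H337.ThreeCent.Ext x) {T : Sylow 3 C} {a : C} (ha : a ∈ (T : Subgroup C)) : a ^ 3 = 1 := by
  by_cases hax : a ∈ Subgroup.zpowers x
  · obtain ⟨k, rfl⟩ := Subgroup.mem_zpowers_iff.1 hax
    rw [← zpow_natCast, ← zpow_mul, mul_comm, zpow_mul]
    have : x ^ ((3 : ℕ) : ℤ) = 1 := by rw [zpow_natCast]; exact E.cube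
    rw [this, one_zpow]
  · have hax' : a⁻¹ ∉ Subgroup.zpowers x := fun h => hax (by simpa using inv_mem h)
    obtain ⟨c, hc⟩ := isConj_iff.1 (E.isConj ha (inv_mem ha) hax hax')
    have h27 := pow_27 E ha
    have hz : a ^ 3 ∈ Subgroup.center C := by
      obtain ⟨e⟩ := E.quot
      rw [← QuotientGroup.eq_one_iff]
      apply e.injective
      rw [map_one, QuotientGroup.mk_pow, map_pow]
      apply M22_cube (k := 3)
      rw [← map_pow, ← QuotientGroup.mk_pow, h27, QuotientGroup.mk_one, map_one]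
    have h1 : c * a ^ 3 * c⁻¹ = (a ^ 3)⁻¹ := by
      rw [← conj_pow, hc, inv_pow]
    rw [Subgroup.mem_center_iff] at hz
    rw [hz, mul_inv_cancel_right] at h1
    -- `a ^ 6 = 1` and `a ^ 27 = 1`
    have h6 : a ^ 6 = 1 := by
      have : a ^ 6 = a ^ 3 * a ^ 3 := by rw [← pow_add]
      rw [this]
      nth_rewrite 1 [h1]
      exact inv_mul_cancel _
    calc a ^ 3 = a ^ (3 ^ 3) * (a ^ 6)⁻¹ ^ 4 := by norm_num; group
      _ = 1 := by rw [h27, h6]; simp

omit [Finite C] in
theorem cent_quot (E : _root_.Cfsg.Agent.H337.ThreeCent.Ext x) {c : C} (h : ∀ g : C, c * g * c⁻¹ * g⁻¹ ∈ Subgroup.center C) :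
    c ∈ Subgroup.center C := by
  obtain ⟨e⟩ := E.quot
  have hs := simple_quot E
  have hM := Cfsg.Agent.SporadicA.MathieuRecog.simple_M22
  rw [← QuotientGroup.eq_one_iff]
  have h1 : (c : C ⧸ Subgroup.center C) ∈ Subgroup.center (C ⧸ Subgroup.center C) := by
    rw [Subgroup.mem_center_iff]
    intro g
    obtain ⟨g, rfl⟩ := QuotientGroup.mk_surjective g
    have h2 := (QuotientGroup.eq_one_iff _).2 (h g)
    rw [QuotientGroup.mk_mul, QuotientGroup.mk_mul, QuotientGroup.mk_mul, QuotientGroup.mk_inv,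
      QuotientGroup.mk_inv, mul_inv_eq_one, mul_inv_eq_iff_eq_mul] at h2
    exact h2.symm
  have h3 : (Subgroup.center (C ⧸ Subgroup.center C)).Normal := inferInstance
  rcases h3.eq_bot_or_eq_top with h4 | h4
  · rwa [h4, Subgroup.mem_bot] at h1
  · exfalso
    -- the quotient would be abelian, so C solvable
    have h5 : ⁅(⊤ : Subgroup C), (⊤ : Subgroup C)⁆ ≤ Subgroup.center C := by
      rw [Subgroup.commutator_le]
      intro a _ b _
      rw [← QuotientGroup.ker_mk' (Subgroup.center C), MonoidHom.mem_ker, map_commutatorElement,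
        commutatorElement_eq_one_iff_mul_comm]
      have h6 : (QuotientGroup.mk' (Subgroup.center C)) b ∈ Subgroup.center (C ⧸ Subgroup.center C) := by
        rw [h4]; exact Subgroup.mem_top _
      exact Subgroup.mem_center_iff.1 h6 _
    rw [← commutator_def, E.perf] at h5
    have h7 : Subsingleton (C ⧸ Subgroup.center C) := by
      rw [top_le_iff.1 h5]
      exact QuotientGroup.subsingleton_quotient_top
    exact not_subsingleton _ h7

/-- images under a homomorphism with central kernel -/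
theorem of_surj (E : _root_.Cfsg.Agent.H337.ThreeCent.Ext x) {D : Type*} [Group D] [Finite D] (φ : C →* D) (hφ : Function.Surjective φ)
    (hker : φ.ker ≤ Subgroup.center C) (hx : φ x ≠ 1) : _root_.Cfsg.Agent.H337.ThreeCent.Ext (φ x) := by
  have h3 : Fact (Nat.Prime 3) := ⟨Nat.prime_three⟩
  have hox : orderOf (φ x) = 3 := orderOf_eq_prime (by rw [← map_pow, E.cube, map_one]) hx
  have hup : ∀ c ∈ Subgroup.center C, φ c ∈ Subgroup.center D := by
    intro c hc
    rw [Subgroup.mem_center_iff] at hc ⊢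
    intro d
    obtain ⟨g, rfl⟩ := hφ d
    rw [← map_mul, hc, map_mul]
  have hdown : ∀ c, φ c ∈ Subgroup.center D → c ∈ Subgroup.center C := by
    intro c hc
    apply cent_quot E
    intro g
    apply hker
    rw [MonoidHom.mem_ker, map_mul, map_mul, map_mul, map_inv, map_inv, ← Subgroup.mem_center_iff.1 hc]
    group
  let f : Subgroup.center C →* Subgroup.center D :=
    (φ.comp (Subgroup.center C).subtype).codRestrict _ (fun c => hup c c.2)
  have hf : Function.Surjective f := by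
    intro d
    obtain ⟨c, hc⟩ := hφ (d : D)
    refine ⟨⟨c, hdown c (by rw [hc]; exact d.2)⟩, Subtype.ext hc⟩
  have hcxc : φ x ∈ Subgroup.center D := hup x E.cent
  refine ⟨hox, hcxc, ?_, ?_, ?_, ?_⟩
  · rw [commutator_def, ← Subgroup.map_top_of_surjective φ hφ, ← Subgroup.map_commutator, ← commutator_def,
      E.perf]
  · have := E.cyc
    exact isCyclic_of_surjective f hf
  · have h1 : Nat.card (Subgroup.center D) ∣ Nat.card (Subgroup.center C) :=
      Subgroup.card_dvd_of_surjective f hf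
    have h2 : 3 ∣ Nat.card (Subgroup.center D) := by
      have h4 : orderOf (⟨φ x, hcxc⟩ : Subgroup.center D) = 3 := by
        rw [Subgroup.orderOf_mk]; exact hox
      rw [← h4]; exact orderOf_dvd_natCard _
    obtain ⟨k, hk⟩ := h2
    rw [hk] at h1 ⊢
    rcases E.card with h | h
    · rw [h] at h1
      have := Nat.le_of_dvd (by norm_num) h1
      have h5 : k ≠ 0 := by rintro rfl; simp at h1
      left; omega
    · rw [h] at h1
      have := Nat.le_of_dvd (by norm_num) h1
      have h5 : k ≠ 0 := by rintro rfl; simp at h1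
      omega
  · obtain ⟨e⟩ := E.quot
    let ψ : C →* D ⧸ Subgroup.center D := (QuotientGroup.mk' (Subgroup.center D)).comp φ
    have hψ : Function.Surjective ψ := (QuotientGroup.mk'_surjective _).comp hφ
    have hk : Subgroup.center C = ψ.ker := by
      ext c
      rw [MonoidHom.mem_ker]
      show _ ↔ (QuotientGroup.mk' (Subgroup.center D)) (φ c) = 1
      rw [← MonoidHom.mem_ker, QuotientGroup.ker_mk']
      exact ⟨hup c, hdown c⟩
    exact ⟨((QuotientGroup.quotientKerEquivOfSurjective ψ hψ).symm.trans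
      (QuotientGroup.quotientMulEquivOfEq hk.symm)).trans e⟩

end

/-! ### normal subgroups -/

section

variable {G : Type*} [Group G] [Finite G] {x : G}

/-- conjugates -/
theorem ext_conj (E : _root_.Cfsg.Agent.H337.ThreeCent.Ext (xC x)) {a : G} (h : IsConj x a) : _root_.Cfsg.Agent.H337.ThreeCent.Ext (xC a) := by
  obtain ⟨c, hc⟩ := isConj_iff.1 h
  have hm : ∀ g : Subgroup.centralizer ({x} : Set G), c * g * c⁻¹ ∈ Subgroup.centralizer ({a} : Set G) := by
    intro g
    rw [Subgroup.mem_centralizer_singleton_iff, ← hc]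
    have := Subgroup.mem_centralizer_singleton_iff.1 g.2
    calc c * g * c⁻¹ * (c * x * c⁻¹) = c * (g * x) * c⁻¹ := by group
      _ = c * (x * g) * c⁻¹ := by rw [this]
      _ = _ := by group
  let φ : Subgroup.centralizer ({x} : Set G) →* Subgroup.centralizer ({a} : Set G) :=
    ((MulAut.conj c).toMonoidHom.comp (Subgroup.subtype _)).codRestrict _ hm
  have h1 : φ (xC x) = xC a := Subtype.ext hc
  rw [← h1]
  apply of_surj E φ
  · intro d
    refine ⟨⟨c⁻¹ * d * c, ?_⟩, Subtype.ext ?_⟩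
    · rw [Subgroup.mem_centralizer_singleton_iff]
      have := Subgroup.mem_centralizer_singleton_iff.1 d.2
      have h2 : x = c⁻¹ * a * c := by rw [← hc]; group
      rw [h2]
      calc c⁻¹ * d * c * (c⁻¹ * a * c) = c⁻¹ * (d * a) * c := by group
        _ = c⁻¹ * (a * d) * c := by rw [this]
        _ = _ := by group
    · show c * (c⁻¹ * d * c) * c⁻¹ = d
      group
  · intro d hd
    have h3 : c * d * c⁻¹ = 1 := congrArg Subtype.val hd
    have h4 : d = 1 := by
      apply Subtype.ext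
      calc (d : G) = c⁻¹ * (c * d * c⁻¹) * c := by group
        _ = 1 := by rw [h3]; group
    rw [h4]
    exact one_mem _
  · rw [h1]
    intro h
    have h5 : a = 1 := congrArg Subtype.val h
    apply ne_one E
    calc x = c⁻¹ * (c * x * c⁻¹) * c := by group
      _ = 1 := by rw [hc, h5]; group

theorem three_dvd_of_mem {K : Subgroup G} {a : G} (ha : orderOf a = 3) (hK : a ∈ K) : 3 ∣ Nat.card K := by
  rw [← ha, ← Subgroup.orderOf_mk a hK]
  exact orderOf_dvd_natCard _

theorem inf_cent {a : G} (E : _root_.Cfsg.Agent.H337.ThreeCent.Ext (xC a)) {K : Subgroup G} (hK : K.Normal)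
    (h3 : ¬ 3 ∣ Nat.card K) {k g : G} (hk : k ∈ K) (hka : k * a = a * k) (hg : g * a = a * g) : k * g = g * k := by
  have hM : (K.subgroupOf (Subgroup.centralizer ({a} : Set G))).Normal := hK.subgroupOf _
  rcases normal E _ hM with h | h
  · have h1 : (⟨k, Subgroup.mem_centralizer_singleton_iff.2 hka⟩ : Subgroup.centralizer ({a} : Set G)) ∈
      K.subgroupOf (Subgroup.centralizer ({a} : Set G)) := Subgroup.mem_subgroupOf.2 hk
    have h2 := Subgroup.mem_center_iff.1 (h h1) ⟨g, Subgroup.mem_centralizer_singleton_iff.2 hg⟩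
    exact (congrArg Subtype.val h2).symm
  · exfalso
    rw [Subgroup.subgroupOf_eq_top] at h
    exact h3 (three_dvd_of_mem (ox E) (h (Subgroup.mem_centralizer_singleton_iff.2 rfl)))

/-- a normal subgroup of order prime to 3 centralises all elements of order 3 -/
theorem normal_cent (hE : ∀ a : G, orderOf a = 3 → _root_.Cfsg.Agent.H337.ThreeCent.Ext (xC a)) {K : Subgroup G} (hK : K.Normal)
    (h3 : ¬ 3 ∣ Nat.card K) {a : G} (ha : orderOf a = 3) : K ≤ Subgroup.centralizer ({a} : Set G) := by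
  have p3 : Fact (Nat.Prime 3) := ⟨Nat.prime_three⟩
  have E := hE a ha
  obtain ⟨T⟩ : Nonempty (Sylow 3 (Subgroup.centralizer ({a} : Set G))) := inferInstance
  -- an element of `T0 T` outside `⟨a⟩`
  obtain ⟨b, hb, hba⟩ : ∃ b ∈ T0 T, b ∉ Subgroup.zpowers a := by
    by_contra hcon
    push Not at hcon
    apply E.not_comm T
    refine ⟨⟨fun u v => ?_⟩⟩
    apply Subtype.ext
    apply Subtype.ext
    have hu := hcon u.1.1 (mem_T0.2 ⟨u.1.2, u.2⟩)
    have hv := hcon v.1.1 (mem_T0.2 ⟨v.1.2, v.2⟩)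
    obtain ⟨i, hi⟩ := Subgroup.mem_zpowers_iff.1 hu
    obtain ⟨j, hj⟩ := Subgroup.mem_zpowers_iff.1 hv
    show (u.1.1 : G) * v.1.1 = v.1.1 * u.1.1
    rw [← hi, ← hj, ← zpow_add, ← zpow_add, add_comm]
  have hab : b * a = a * b := comm_x hb
  let A : Subgroup G := Subgroup.closure {a, b}
  have hAT : A ≤ T0 T := by
    rw [Subgroup.closure_le]
    rintro u (rfl | rfl)
    · exact x_mem_T0 E T
    · exact hb
  have hA3 : ∀ u ∈ A, u ^ 3 = 1 := by
    intro u hu
    obtain ⟨h1, h2⟩ := mem_T0.1 (hAT hu)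
    exact congrArg Subtype.val (exp3 E h2)
  have haA : a ∈ A := Subgroup.subset_closure (by simp)
  have hbA : b ∈ A := Subgroup.subset_closure (by simp)
  have hcomm : IsMulCommutative A := by
    rw [← Subgroup.le_centralizer_iff_isMulCommutative, Subgroup.closure_le]
    have key : ∀ w : G, w * a = a * w → w * b = b * w → w ∈ Subgroup.centralizer (A : Set G) := by
      intro w h1 h2
      rw [Subgroup.mem_centralizer_iff]
      have h3 : A ≤ Subgroup.centralizer ({w} : Set G) := by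
        rw [Subgroup.closure_le]
        rintro u (rfl | rfl)
        · exact Subgroup.mem_centralizer_singleton_iff.2 h1.symm
        · exact Subgroup.mem_centralizer_singleton_iff.2 h2.symm
      intro u hu
      exact Subgroup.mem_centralizer_singleton_iff.1 (h3 hu)
    rintro u (rfl | rfl)
    · exact key _ rfl hab.symm
    · exact key _ hab rfl
  have hcyc : ¬ IsCyclic A := by
    intro hc
    obtain ⟨g, hg⟩ := hc.exists_generator
    have h4 : Nat.card A ≤ 3 := by
      have h5 : orderOf g = Nat.card A := orderOf_eq_card_of_forall_mem_zpowers hg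
      rw [← h5]
      apply orderOf_le_of_pow_eq_one (by norm_num)
      exact Subtype.ext (by exact_mod_cast hA3 g g.2)
    have h6 : Subgroup.zpowers a ≤ A := by rw [Subgroup.zpowers_le]; exact haA
    have h7 : Subgroup.zpowers a = A := Subgroup.eq_of_le_of_card_ge h6 (by rw [Nat.card_zpowers, ha]; exact h4)
    exact hba (h7 ▸ hbA)
  have hpA : IsPGroup 3 A := by
    intro u
    exact ⟨1, Subtype.ext (by simpa only [_root_.pow_one, _root_.SubmonoidClass.coe_pow, _root_.OneMemClass.coe_one] using hA3 u u.2)⟩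
  have hcop : (Nat.card A).Coprime (Nat.card K) := by
    obtain ⟨n, hn⟩ := IsPGroup.iff_card.1 hpA
    rw [hn]
    exact Nat.Coprime.pow_left n ((Nat.Prime.coprime_iff_not_dvd Nat.prime_three).2 h3)
  have hnorm : A ≤ Subgroup.normalizer (K : Set G) := by
    rw [Subgroup.normalizer_eq_top_iff.2 hK]; exact le_top
  rw [← S0058.result A K hcyc hnorm hcop]
  apply iSup₂_le
  intro u hu k hk
  have hku : k * u = u * k := Subgroup.mem_centralizer_singleton_iff.1 hk.2
  have hou : orderOf u = 3 := orderOf_eq_prime (hA3 u hu.1) hu.2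
  rw [Subgroup.mem_centralizer_singleton_iff]
  apply inf_cent (hE u hou) hK h3 hk.1 hku
  have := hcomm.is_comm.comm ⟨a, haA⟩ ⟨u, hu.1⟩
  exact congrArg Subtype.val this

/-- if all normal subgroups of order prime to 3 are trivial, the group is simple -/
theorem simple_of (E : _root_.Cfsg.Agent.H337.ThreeCent.Ext (xC x)) (hcl : ∀ u : G, orderOf u = 3 → IsConj x u)
    (hK : ∀ K : Subgroup G, K.Normal → ¬ 3 ∣ Nat.card K → K = ⊥) : IsSimpleGroup G := by
  have p3 : Fact (Nat.Prime 3) := ⟨Nat.prime_three⟩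
  have hnt : Nontrivial G := ⟨⟨x, 1, ne_one E⟩⟩
  refine ⟨fun N hN => ?_⟩
  by_cases h3 : 3 ∣ Nat.card N
  swap
  · exact Or.inl (hK N hN h3)
  right
  obtain ⟨u, hu⟩ := exists_prime_orderOf_dvd_card' 3 h3
  have hu' : orderOf (u : G) = 3 := by rw [← hu]; exact Subgroup.orderOf_coe u
  -- all elements of order 3 are in `N`
  have hxN : x ∈ N := by
    obtain ⟨c, hc⟩ := isConj_iff.1 (hcl u hu')
    have h1 := hN.conj_mem _ u.2 c⁻¹
    rw [← hc] at h1
    have h2 : c⁻¹ * (c * x * c⁻¹) * c⁻¹⁻¹ = x := by group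
    rwa [h2] at h1
  have hall : ∀ v : G, v ^ 3 = 1 → v ∈ N := by
    intro v hv
    by_cases hv1 : v = 1
    · rw [hv1]; exact one_mem _
    · obtain ⟨c, hc⟩ := isConj_iff.1 (hcl v (orderOf_eq_prime hv hv1))
      rw [← hc]
      exact hN.conj_mem _ hxN c
  obtain ⟨T⟩ : Nonempty (Sylow 3 (Subgroup.centralizer ({x} : Set G))) := inferInstance
  have hTN : T0 T ≤ N := by
    intro v hv
    apply hall
    obtain ⟨h1, h2⟩ := mem_T0.1 hv
    exact congrArg Subtype.val (exp3 E h2)
  have hCN : Subgroup.centralizer ({x} : Set G) ≤ N := by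
    rcases normal E (N.subgroupOf (Subgroup.centralizer ({x} : Set G))) (hN.subgroupOf _) with h | h
    · exfalso
      apply E.not_comm T
      refine ⟨⟨fun a b => ?_⟩⟩
      apply Subtype.ext
      have h1 : (a : Subgroup.centralizer ({x} : Set G)) ∈
          N.subgroupOf (Subgroup.centralizer ({x} : Set G)) :=
        Subgroup.mem_subgroupOf.2 (hTN (mem_T0.2 ⟨a.1.2, a.2⟩))
      exact (Subgroup.mem_center_iff.1 (h h1) b).symm
    · rwa [Subgroup.subgroupOf_eq_top] at h
  -- an element of `N` inverting `x`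
  obtain ⟨m, hm, hmx⟩ : ∃ m ∈ N, m * x * m⁻¹ = x⁻¹ := by
    obtain ⟨b, hb, hbx⟩ : ∃ b ∈ T0 T, b ∉ Subgroup.zpowers x := by
      by_contra hcon
      push Not at hcon
      apply E.not_comm T
      refine ⟨⟨fun u v => ?_⟩⟩
      apply Subtype.ext
      apply Subtype.ext
      have hu := hcon u.1.1 (mem_T0.2 ⟨u.1.2, u.2⟩)
      have hv := hcon v.1.1 (mem_T0.2 ⟨v.1.2, v.2⟩)
      obtain ⟨i, hi⟩ := Subgroup.mem_zpowers_iff.1 hu
      obtain ⟨j, hj⟩ := Subgroup.mem_zpowers_iff.1 hv
      show (u.1.1 : G) * v.1.1 = v.1.1 * u.1.1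
      rw [← hi, ← hj, ← zpow_add, ← zpow_add, add_comm]
    obtain ⟨hb1, hb2⟩ := mem_T0.1 hb
    have hb1' : (⟨b, hb1⟩ : Subgroup.centralizer ({x} : Set G)) ∉ Subgroup.zpowers (xC x) :=
      fun h => hbx (mem_zpowers_coe.1 h)
    have hb1'' : (⟨b, hb1⟩ : Subgroup.centralizer ({x} : Set G))⁻¹ ∉ Subgroup.zpowers (xC x) :=
      fun h => hb1' (by simpa using inv_mem h)
    obtain ⟨c, hc⟩ := isConj_iff.1 (E.isConj hb2 (inv_mem hb2) hb1' hb1'')
    have hc' : (c : G) * b * (c : G)⁻¹ = b⁻¹ := congrArg Subtype.val hc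
    have hb3 : b ^ 3 = 1 := congrArg Subtype.val (exp3 E hb2)
    have hb0 : b ≠ 1 := by
      rintro rfl
      exact hbx (one_mem _)
    obtain ⟨g, hg⟩ := isConj_iff.1 (hcl b (orderOf_eq_prime hb3 hb0))
    refine ⟨g⁻¹ * c * g⁻¹⁻¹, hN.conj_mem _ (hCN c.2) _, ?_⟩
    have hx : x = g⁻¹ * b * g := by rw [← hg]; group
    calc g⁻¹ * c * g⁻¹⁻¹ * x * (g⁻¹ * c * g⁻¹⁻¹)⁻¹ = g⁻¹ * (c * (g * x * g⁻¹) * (c : G)⁻¹) * g := by group
      _ = g⁻¹ * b⁻¹ * g := by rw [hg, hc']
      _ = x⁻¹ := by rw [hx]; group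
  -- Frattini
  obtain ⟨S, hS⟩ := exists_sylow E T
  have hfr := Sylow.normalizer_sup_eq_top' S (N := N) (by rw [hS]; exact hTN)
  rw [eq_top_iff, ← hfr]
  apply sup_le _ le_rfl
  intro n hn
  have hn' : ∀ y, y ∈ T0 T ↔ n * y * n⁻¹ ∈ T0 T := by
    intro y
    rw [← hS]
    exact Subgroup.mem_normalizer_iff.1 hn y
  rcases conj_x E hn' with h | h
  · apply hCN
    rw [Subgroup.mem_centralizer_singleton_iff]
    rw [mul_inv_eq_iff_eq_mul] at h
    exact h
  · have h5 : m⁻¹ * n ∈ N := by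
      apply hCN
      rw [Subgroup.mem_centralizer_singleton_iff]
      have h6 : n * x = x⁻¹ * n := by rw [← h]; group
      have h7 : m * x = x⁻¹ * m := by rw [← hmx]; group
      have h8 : m⁻¹ * x⁻¹ = x * m⁻¹ := by
        calc m⁻¹ * x⁻¹ = m⁻¹ * (x⁻¹ * m) * m⁻¹ := by group
          _ = m⁻¹ * (m * x) * m⁻¹ := by rw [h7]
          _ = x * m⁻¹ := by group
      calc m⁻¹ * n * x = m⁻¹ * (n * x) := by group
        _ = m⁻¹ * x⁻¹ * n := by rw [h6]; group
        _ = x * m⁻¹ * n := by rw [h8]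
        _ = x * (m⁻¹ * n) := by group
    have := mul_mem hm h5
    rwa [mul_inv_cancel_left] at this

end

end Cfsg.Agent.H337.GenCase
end

-- part: H337/GenJ4
section
/-!
# In a group of Janko-four type the centraliser of some element of order 3 is not `3·M22`
-/

set_option autoImplicit false

namespace Cfsg.Agent.H337.GenJ4

open Cfsg Cfsg.Agent.H337.ThreeCent Cfsg.Agent.H337.ThreeGroup Cfsg.Agent.H337.GenCase

theorem center_M22 {C : Type*} [Group C] [Finite C] {x : C} (E : _root_.Cfsg.Agent.H337.ThreeCent.Ext x) {m : Spor.M22}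
    (hm : ∀ n : Spor.M22, n * m = m * n) : m = 1 := by
  obtain ⟨e⟩ := E.quot
  obtain ⟨c, hc⟩ := QuotientGroup.mk_surjective (e.symm m)
  have h1 : c ∈ Subgroup.center C := by
    apply cent_quot E
    intro g
    rw [← QuotientGroup.eq_one_iff]
    apply e.injective
    rw [QuotientGroup.mk_mul, QuotientGroup.mk_mul, QuotientGroup.mk_mul, QuotientGroup.mk_inv,
      QuotientGroup.mk_inv, hc, map_mul, map_mul, map_mul, map_inv, map_inv, e.apply_symm_apply, map_one,
      ← hm]
    group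
  have h2 := (QuotientGroup.eq_one_iff _).2 h1
  rw [hc] at h2
  have h3 := congrArg e h2
  rwa [e.apply_symm_apply, map_one] at h3

theorem card_mulAut {C : Type*} [Group C] [Finite C] {x : C} (E : _root_.Cfsg.Agent.H337.ThreeCent.Ext x) [Finite (MulAut Spor.M22)] :
    443520 ≤ Nat.card (MulAut Spor.M22) := by
  rw [← Cfsg.Agent.SporadicA.MathieuRecog.card_M22]
  apply Nat.card_le_card_of_injective (fun m : Spor.M22 => MulAut.conj m)
  rw [show (fun m : Spor.M22 => MulAut.conj m) = ⇑(MulAut.conj (G := Spor.M22)) from rfl, injective_iff_map_eq_one]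
  intro m hm
  apply center_M22 E
  intro n
  have h1 : m * n * m⁻¹ = n := by
    have := congrArg (fun f : MulAut Spor.M22 => f n) hm
    simpa only [_root_.MulAut.conj_apply, _root_.MulAut.one_apply] using this
  rw [mul_inv_eq_iff_eq_mul] at h1
  exact h1.symm

theorem card_le_two {G : Type*} [Group G] [Finite G] {r : G} {M : Subgroup G}
    (h : ∀ m ∈ M, m * r * m⁻¹ = r ∨ m * r * m⁻¹ = r⁻¹) :
    Nat.card M ≤ 2 * Nat.card (M ⊓ Subgroup.centralizer ({r} : Set G) : Subgroup G) := by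
  classical
  have key : ∀ m ∈ M, m * r * m⁻¹ = r → m ∈ M ⊓ Subgroup.centralizer ({r} : Set G) := by
    intro m hm h1
    refine ⟨hm, Subgroup.mem_centralizer_singleton_iff.2 ?_⟩
    rwa [mul_inv_eq_iff_eq_mul] at h1
  by_cases hex : ∃ m0 ∈ M, m0 * r * m0⁻¹ = r⁻¹
  · obtain ⟨m0, hm0, h0⟩ := hex
    have h2 : ∀ m ∈ M, m * r * m⁻¹ ≠ r → m0⁻¹ * m ∈ M ⊓ Subgroup.centralizer ({r} : Set G) := by
      intro m hm h1
      have h3 := (h m hm).resolve_left h1
      apply key _ (mul_mem (inv_mem hm0) hm)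
      calc m0⁻¹ * m * r * (m0⁻¹ * m)⁻¹ = m0⁻¹ * (m * r * m⁻¹) * m0 := by group
        _ = m0⁻¹ * (m0 * r * m0⁻¹) * m0 := by rw [h3, h0]
        _ = r := by group
    let f : M → Bool × (M ⊓ Subgroup.centralizer ({r} : Set G) : Subgroup G) := fun m =>
      if h1 : (m : G) * r * (m : G)⁻¹ = r then (true, ⟨m, key m m.2 h1⟩)
      else (false, ⟨m0⁻¹ * m, h2 m m.2 h1⟩)
    have hf : Function.Injective f := by
      intro a b hab
      by_cases ha : (a : G) * r * (a : G)⁻¹ = r <;> by_cases hb : (b : G) * r * (b : G)⁻¹ = r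
      · simp only [f, dif_pos ha, dif_pos hb, Prod.mk.injEq, Subtype.mk.injEq, true_and] at hab
        exact Subtype.ext hab
      · simp only [f, dif_pos ha, dif_neg hb, Prod.mk.injEq] at hab
        exact absurd hab.1 (by decide)
      · simp only [f, dif_neg ha, dif_pos hb, Prod.mk.injEq] at hab
        exact absurd hab.1 (by decide)
      · simp only [f, dif_neg ha, dif_neg hb, Prod.mk.injEq, Subtype.mk.injEq, true_and] at hab
        exact Subtype.ext (mul_left_cancel hab)
    have h4 := Nat.card_le_card_of_injective f hf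
    rw [Nat.card_prod, Nat.card_eq_fintype_card (α := Bool), Fintype.card_bool] at h4
    exact h4
  · push Not at hex
    have h5 : M ≤ M ⊓ Subgroup.centralizer ({r} : Set G) := fun m hm =>
      key m hm ((h m hm).resolve_right (hex m hm))
    have h6 := Subgroup.card_le_of_le h5
    omega

/-- **The contradiction.** -/
theorem no_three {G : Type*} [Group G] [Finite G] {z : G} {P : Subgroup G} (h : IsOfJankoFourTypeWith z P)
    (hE : ∀ r : G, orderOf r = 3 → _root_.Cfsg.Agent.H337.ThreeCent.Ext (xC r))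
    (hZ : ∀ r : G, orderOf r = 3 → Nat.card (Subgroup.center (Subgroup.centralizer ({r} : Set G))) = 3) :
    False := by
  have p3 : Fact (Nat.Prime 3) := ⟨Nat.prime_three⟩
  obtain ⟨hz, -, h13, -, ⟨N, hEN, hNH, -, hNc, ⟨hnorm, ⟨e⟩⟩, hPN⟩, hP, hC, -, -⟩ := h
  -- `P = ⟨r⟩`
  obtain ⟨r, hr⟩ := exists_prime_orderOf_dvd_card' (G := P) 3 (by rw [hP])
  have hr' : orderOf (r : G) = 3 := by rw [← hr]; exact Subgroup.orderOf_coe r
  have hPr : Subgroup.zpowers (r : G) = P := by
    apply Subgroup.eq_of_le_of_card_ge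
    · rw [Subgroup.zpowers_le]; exact r.2
    · rw [Nat.card_zpowers, hr', hP]
  have E := hE r hr'
  have hzE : z ∈ twoCoreOfCentralizer z ⊓ Subgroup.centralizer (P : Set G) := by
    rw [hC]; exact Subgroup.mem_zpowers z
  have hzr : z * r = r * z := by
    exact (Subgroup.mem_centralizer_iff.1 hzE.2 r r.2).symm
  have hPH : P ≤ Subgroup.centralizer ({z} : Set G) := hPN.trans hNH
  -- work in the centralizer `H`
  obtain ⟨H, hH⟩ : ∃ H : Subgroup G, H = Subgroup.centralizer ({z} : Set G) := ⟨_, rfl⟩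
  have hnorm' : (N.subgroupOf H).Normal := by rw [hH]; exact hnorm
  have e' : H ⧸ N.subgroupOf H ≃* MulAut Spor.M22 := by subst hH; exact e
  have hNH' : N ≤ H := by rw [hH]; exact hNH
  have hPH' : P ≤ H := by rw [hH]; exact hPH
  have hfin : Finite (MulAut Spor.M22) := Finite.of_equiv _ e'.toEquiv
  have hidx : 443520 ≤ (N.subgroupOf H).index := by
    have h1 : (N.subgroupOf H).index = Nat.card (MulAut Spor.M22) := Nat.card_congr e'.toEquiv
    rw [h1]; exact card_mulAut E
  obtain ⟨N', hN'⟩ : ∃ N' : Subgroup H, N' = N.subgroupOf H := ⟨_, rfl⟩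
  rw [← hN'] at hidx hnorm'
  obtain ⟨P', hP'⟩ : ∃ P' : Subgroup H, P' = P.subgroupOf H := ⟨_, rfl⟩
  have hPN' : P' ≤ N' := by
    intro y hy
    rw [hN', Subgroup.mem_subgroupOf]
    rw [hP', Subgroup.mem_subgroupOf] at hy
    exact hPN hy
  have cN' : Nat.card N' = 3 * 2 ^ 13 := by
    rw [hN', Nat.card_congr (Subgroup.subgroupOfEquivOfLe hNH').toEquiv, hNc, h13]
  have cP' : Nat.card P' = 3 := by
    rw [hP', Nat.card_congr (Subgroup.subgroupOfEquivOfLe hPH').toEquiv, hP]
  have cPN : Nat.card (P'.subgroupOf N') = 3 ^ (Nat.card N').factorization 3 := by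
    rw [Nat.card_congr (Subgroup.subgroupOfEquivOfLe hPN').toEquiv, cP', cN']
    have : (3 * 2 ^ 13).factorization 3 = 1 := by
      rw [Nat.factorization_mul (by norm_num) (by norm_num), Nat.Prime.factorization Nat.prime_three,
        Nat.Prime.factorization_pow Nat.prime_two]
      simp
    rw [this, pow_one]
  have hfr := Sylow.normalizer_sup_eq_top (Sylow.ofCard (P'.subgroupOf N') cPN)
  have hmap : ((Sylow.ofCard (P'.subgroupOf N') cPN : Sylow 3 N') : Subgroup N').map N'.subtype = P' := by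
    show (P'.subgroupOf N').map N'.subtype = P'
    rw [Subgroup.subgroupOf_map_subtype, inf_of_le_left hPN']
  have hfr' : Subgroup.normalizer (P' : Set H) ⊔ N' = ⊤ := by
    have := congrArg (fun Q : Subgroup H => Subgroup.normalizer (Q : Set H) ⊔ N') hmap
    exact this.symm.trans hfr
  obtain ⟨M, hM⟩ : ∃ M : Subgroup H, M = Subgroup.normalizer (P' : Set H) := ⟨_, rfl⟩
  rw [← hM] at hfr'
  -- the order of `M`
  have hrel : N'.index = N'.relIndex M := by
    rw [← Subgroup.relIndex_top_right, ← hfr', Subgroup.relIndex_sup_right]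
  have hcardM : N'.relIndex M * Nat.card (N' ⊓ M : Subgroup H) = Nat.card M := by
    rw [← Subgroup.inf_relIndex_right, mul_comm, ← Subgroup.relIndex_bot_left, ← Subgroup.relIndex_bot_left]
    exact Subgroup.relIndex_mul_relIndex _ _ _ bot_le inf_le_right
  have hrH : (r : G) ∈ H := hPH' r.2
  have hzH : z ∈ H := by
    rw [hH, Subgroup.mem_centralizer_singleton_iff]
  have hrM : (⟨r, hrH⟩ : H) ∈ N' ⊓ M := by
    have hmem : (⟨r, hrH⟩ : H) ∈ P' := by rw [hP']; exact Subgroup.mem_subgroupOf.2 r.2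
    refine ⟨hPN' hmem, ?_⟩
    rw [hM]
    exact Subgroup.le_normalizer hmem
  have hPmem : ∀ y : H, y ∈ P' ↔ (y : G) ∈ Subgroup.zpowers (r : G) := by
    intro y
    rw [hP', Subgroup.mem_subgroupOf, hPr]
  have hzM : (⟨z, hzH⟩ : H) ∈ N' ⊓ M := by
    refine ⟨?_, ?_⟩
    · rw [hN']; exact Subgroup.mem_subgroupOf.2 (hEN hzE.1)
    · rw [hM]
      refine Subgroup.mem_normalizer_iff.2 fun y => ?_
      have : (⟨z, hzH⟩ : H) * y * (⟨z, hzH⟩ : H)⁻¹ = y := by
        apply Subtype.ext
        show z * y * z⁻¹ = y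
        have hHC : ∀ g : G, g ∈ H → g * z = z * g := fun g hg => by
          rw [hH] at hg
          exact Subgroup.mem_centralizer_singleton_iff.1 hg
        rw [← hHC y y.2, mul_inv_cancel_right]
      rw [this]
  have h6 : 6 ≤ Nat.card (N' ⊓ M : Subgroup H) := by
    have h2 : 2 ∣ Nat.card (N' ⊓ M : Subgroup H) := by
      have h7 : orderOf (⟨⟨z, hzH⟩, hzM⟩ : (N' ⊓ M : Subgroup H)) = 2 := by
        rw [Subgroup.orderOf_mk, Subgroup.orderOf_mk]; exact hz
      rw [← h7]; exact orderOf_dvd_natCard _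
    have h3 : 3 ∣ Nat.card (N' ⊓ M : Subgroup H) := by
      have h7 : orderOf (⟨⟨r, hrH⟩, hrM⟩ : (N' ⊓ M : Subgroup H)) = 3 := by
        rw [Subgroup.orderOf_mk, Subgroup.orderOf_mk]; exact hr'
      rw [← h7]; exact orderOf_dvd_natCard _
    have h5 : 0 < Nat.card (N' ⊓ M : Subgroup H) := Nat.card_pos
    omega
  have hMcard : 443520 * 6 ≤ Nat.card M := by
    rw [← hcardM, ← hrel]
    exact Nat.mul_le_mul hidx h6
  -- `M` acts on `⟨r⟩`
  have hinv : ∀ m ∈ M, m * (⟨r, hrH⟩ : H) * m⁻¹ = ⟨r, hrH⟩ ∨ m * (⟨r, hrH⟩ : H) * m⁻¹ = (⟨r, hrH⟩ : H)⁻¹ := by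
    intro m hm
    rw [hM, Subgroup.mem_normalizer_iff] at hm
    have h8 : m * (⟨r, hrH⟩ : H) * m⁻¹ ∈ P' := (hm _).1 ((hPmem _).2 (Subgroup.mem_zpowers _))
    have hr3 : (r : G) ^ 3 = 1 := by rw [← hr']; exact pow_orderOf_eq_one _
    rcases zpow_cases hr3 ((hPmem _).1 h8) with h9 | h9 | h9
    · exfalso
      have h10 : m * (⟨r, hrH⟩ : H) * m⁻¹ = 1 := Subtype.ext h9
      rw [mul_inv_eq_one, mul_eq_left] at h10
      have h11 : (r : G) = 1 := congrArg Subtype.val h10
      rw [h11, orderOf_one] at hr'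
      omega
    · left; exact Subtype.ext h9
    · right; exact Subtype.ext h9
  have hle := card_le_two hinv
  -- the image in the centralizer of `r`
  obtain ⟨Q, hQ⟩ : ∃ Q : Subgroup G, Q = (M ⊓ Subgroup.centralizer ({(⟨r, hrH⟩ : H)} : Set H)).map H.subtype :=
    ⟨_, rfl⟩
  have hQr : Q ≤ Subgroup.centralizer ({(r : G)} : Set G) := by
    rw [hQ]
    rintro _ ⟨y, hy, rfl⟩
    have h12 := Subgroup.mem_centralizer_singleton_iff.1 hy.2
    exact Subgroup.mem_centralizer_singleton_iff.2 (congrArg Subtype.val h12)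
  have hQz : Q ≤ Subgroup.centralizer ({z} : Set G) := by
    rw [hQ, ← hH]
    rintro _ ⟨y, -, rfl⟩
    exact y.2
  have hQc : Nat.card Q = Nat.card (M ⊓ Subgroup.centralizer ({(⟨r, hrH⟩ : H)} : Set H) : Subgroup H) := by
    rw [hQ]
    exact (Nat.card_congr (Subgroup.equivMapOfInjective _ _ (Subgroup.subtype_injective _)).toEquiv).symm
  have hCr : Nat.card (Subgroup.centralizer ({(r : G)} : Set G)) = 443520 * 3 := by
    rw [E.card_C, hZ r hr']
  have hQeq : Q = Subgroup.centralizer ({(r : G)} : Set G) :=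
    Subgroup.eq_of_le_of_card_ge hQr (by rw [hCr, hQc]; omega)
  -- `z` is central of order 2
  have hzc : z ∈ Subgroup.centralizer ({(r : G)} : Set G) := Subgroup.mem_centralizer_singleton_iff.2 hzr
  have hzz : (⟨z, hzc⟩ : Subgroup.centralizer ({(r : G)} : Set G)) ∈
      Subgroup.center (Subgroup.centralizer ({(r : G)} : Set G)) := by
    rw [Subgroup.mem_center_iff]
    intro y
    apply Subtype.ext
    have hy : (y : G) ∈ Q := by rw [hQeq]; exact y.2
    exact Subgroup.mem_centralizer_singleton_iff.1 (hQz hy)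
  have h13 : orderOf (⟨⟨z, hzc⟩, hzz⟩ : Subgroup.center (Subgroup.centralizer ({(r : G)} : Set G))) = 2 := by
    rw [Subgroup.orderOf_mk, Subgroup.orderOf_mk]; exact hz
  have h14 := orderOf_dvd_natCard (⟨⟨z, hzc⟩, hzz⟩ : Subgroup.center (Subgroup.centralizer ({(r : G)} : Set G)))
  rw [h13, hZ r hr'] at h14
  omega

end Cfsg.Agent.H337.GenJ4
end

-- part: H337/GenMain
section
/-!
# `J4` from the centraliser `3·M22` or `6·M22` of an element of order 3: the general case
-/

set_option autoImplicit false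

namespace Cfsg.Agent.H337.GenMain

open Cfsg Cfsg.Agent.OrdDiv Cfsg.Agent.H337.ThreeCent Cfsg.Agent.H337.ThreeGroup Cfsg.Agent.H337.GenCase

universe u

section

variable {G : Type u} [Group G] [Finite G] {x : G}

/-- the elements of a normal subgroup of order prime to 3 -/
theorem normal_elt (E : _root_.Cfsg.Agent.H337.ThreeCent.Ext (xC x)) (hcl : ∀ u : G, orderOf u = 3 → IsConj x u)
    {K : Subgroup G} (hK : K.Normal) (h3 : ¬ 3 ∣ Nat.card K) {k : G} (hk : k ∈ K) :
    (∀ g : G, g * x = x * g → k * g = g * k) ∧ k * x = x * k ∧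
      k ^ Nat.card (Subgroup.center (Subgroup.centralizer ({x} : Set G))) = 1 := by
  have hE : ∀ a : G, orderOf a = 3 → _root_.Cfsg.Agent.H337.ThreeCent.Ext (xC a) := fun a ha => ext_conj E (hcl a ha)
  have h1 : k * x = x * k :=
    Subgroup.mem_centralizer_singleton_iff.1 (normal_cent hE hK h3 (ox E) hk)
  have h2 : ∀ g : G, g * x = x * g → k * g = g * k := fun g hg => inf_cent E hK h3 hk h1 hg
  refine ⟨h2, h1, ?_⟩
  have hkc : (⟨k, Subgroup.mem_centralizer_singleton_iff.2 h1⟩ : Subgroup.centralizer ({x} : Set G)) ∈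
      Subgroup.center (Subgroup.centralizer ({x} : Set G)) := by
    rw [Subgroup.mem_center_iff]
    intro g
    exact Subtype.ext (h2 g (Subgroup.mem_centralizer_singleton_iff.1 g.2)).symm
  have h4 : (⟨_, hkc⟩ : Subgroup.center (Subgroup.centralizer ({x} : Set G))) ^
      Nat.card (Subgroup.center (Subgroup.centralizer ({x} : Set G))) = 1 := pow_card_eq_one'
  exact congrArg (fun y : Subgroup.center (Subgroup.centralizer ({x} : Set G)) => ((y : Subgroup.centralizer ({x} : Set G)) : G)) h4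

theorem normal_eq_bot (E : _root_.Cfsg.Agent.H337.ThreeCent.Ext (xC x)) (hcl : ∀ u : G, orderOf u = 3 → IsConj x u)
    (hZ : Nat.card (Subgroup.center (Subgroup.centralizer ({x} : Set G))) = 3)
    {K : Subgroup G} (hK : K.Normal) (h3 : ¬ 3 ∣ Nat.card K) : K = ⊥ := by
  rw [eq_bot_iff]
  intro k hk
  have h4 := (normal_elt E hcl hK h3 hk).2.2
  rw [hZ] at h4
  have h5 : (⟨k, hk⟩ : K) ^ Nat.card K = 1 := pow_card_eq_one'
  have h6 : k ^ Nat.card K = 1 := congrArg Subtype.val h5
  have h7 : orderOf k = 1 := Nat.eq_one_of_dvd_coprimes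
    ((Nat.Prime.coprime_iff_not_dvd Nat.prime_three).2 h3) (orderOf_dvd_of_pow_eq_one h4)
    (orderOf_dvd_of_pow_eq_one h6)
  rw [Subgroup.mem_bot]
  exact orderOf_eq_one_iff.1 h7

theorem normal_sq (E : _root_.Cfsg.Agent.H337.ThreeCent.Ext (xC x)) (hcl : ∀ u : G, orderOf u = 3 → IsConj x u)
    {K : Subgroup G} (hK : K.Normal) (h3 : ¬ 3 ∣ Nat.card K) {k : G} (hk : k ∈ K) : k ^ 2 = 1 := by
  have h4 : k ^ 6 = 1 := by
    have h4 := (normal_elt E hcl hK h3 hk).2.2
    rcases E.card with h | h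
    · rw [h] at h4
      rw [show 6 = 3 * 2 by norm_num, pow_mul, h4, one_pow]
    · rwa [h] at h4
  have h5 : (⟨k, hk⟩ : K) ^ Nat.card K = 1 := pow_card_eq_one'
  have h6 : k ^ Nat.card K = 1 := congrArg Subtype.val h5
  have h7 : Nat.Coprime 3 (Nat.card K) := (Nat.Prime.coprime_iff_not_dvd Nat.prime_three).2 h3
  have h8 : orderOf (k ^ 2) = 1 := by
    apply Nat.eq_one_of_dvd_coprimes h7
    · apply orderOf_dvd_of_pow_eq_one
      rw [← pow_mul]; exact h4
    · apply orderOf_dvd_of_pow_eq_one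
      rw [← pow_mul, mul_comm, pow_mul, h6, one_pow]
  exact orderOf_eq_one_iff.1 h8

/-- the quotient by a normal subgroup of order prime to 3 -/
theorem quot_cl (E : _root_.Cfsg.Agent.H337.ThreeCent.Ext (xC x)) (hcl : ∀ u : G, orderOf u = 3 → IsConj x u)
    {K : Subgroup G} [hK : K.Normal] (h3 : ¬ 3 ∣ Nat.card K) (u : G ⧸ K) (hu : orderOf u = 3) :
    IsConj (x : G ⧸ K) u := by
  have p3 : Fact (Nat.Prime 3) := ⟨Nat.prime_three⟩
  obtain ⟨v, rfl⟩ := QuotientGroup.mk_surjective u
  have hv3 : v ^ 3 ∈ K := by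
    rw [← QuotientGroup.eq_one_iff, QuotientGroup.mk_pow, ← hu]
    exact pow_orderOf_eq_one _
  have hv6 : v ^ 6 = 1 := by
    have := normal_sq E hcl hK h3 hv3
    rwa [← pow_mul] at this
  have hc3 : (v : G ⧸ K) ^ 3 = 1 := by rw [← hu]; exact pow_orderOf_eq_one _
  have h4 : ((v ^ 4 : G) : G ⧸ K) = v := by
    rw [QuotientGroup.mk_pow, pow_succ, hc3, one_mul]
  have h12 : (v ^ 4) ^ 3 = 1 := by
    rw [← pow_mul, show 4 * 3 = 6 * 2 by norm_num, pow_mul, hv6, one_pow]
  have h1 : v ^ 4 ≠ 1 := by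
    intro h
    rw [h, QuotientGroup.mk_one] at h4
    rw [← h4, orderOf_one] at hu
    omega
  have h5 := (QuotientGroup.mk' K).map_isConj (hcl (v ^ 4) (orderOf_eq_prime h12 h1))
  rw [← h4]
  exact h5

/-- the map of centralisers -/
def phi (K : Subgroup G) [K.Normal] (x : G) :
    Subgroup.centralizer ({x} : Set G) →* Subgroup.centralizer ({(x : G ⧸ K)} : Set (G ⧸ K)) :=
  ((QuotientGroup.mk' K).comp (Subgroup.subtype _)).codRestrict _ (fun c => by
    rw [Subgroup.mem_centralizer_singleton_iff]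
    show ((c : G) : G ⧸ K) * (x : G ⧸ K) = (x : G ⧸ K) * ((c : G) : G ⧸ K)
    rw [← QuotientGroup.mk_mul, Subgroup.mem_centralizer_singleton_iff.1 c.2, QuotientGroup.mk_mul])

theorem phi_surj (E : _root_.Cfsg.Agent.H337.ThreeCent.Ext (xC x)) (hcl : ∀ u : G, orderOf u = 3 → IsConj x u)
    {K : Subgroup G} [hK : K.Normal] (h3 : ¬ 3 ∣ Nat.card K) : Function.Surjective (phi K x) := by
  intro d
  obtain ⟨g, hg⟩ := QuotientGroup.mk_surjective (d : G ⧸ K)
  have hd := Subgroup.mem_centralizer_singleton_iff.1 d.2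
  rw [← hg, ← QuotientGroup.mk_mul, ← QuotientGroup.mk_mul] at hd
  have hk : (x * g)⁻¹ * (g * x) ∈ K := QuotientGroup.eq.1 hd.symm
  obtain ⟨k, hk0⟩ : ∃ k, k = (x * g)⁻¹ * (g * x) := ⟨_, rfl⟩
  rw [← hk0] at hk
  -- `g * x = x * g * k`, so `g x g⁻¹ = x k'`
  have hk' : g * k * g⁻¹ ∈ K := hK.conj_mem _ hk g
  obtain ⟨l, hl0⟩ : ∃ l, l = g * k * g⁻¹ := ⟨_, rfl⟩
  rw [← hl0] at hk'
  have h5 : g * x * g⁻¹ = x * l := by rw [hl0, hk0]; group
  have hlx : l * x = x * l := (normal_elt E hcl hK h3 hk').2.1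
  have hl2 := normal_sq E hcl hK h3 hk'
  have h6 : (g * x * g⁻¹) ^ 3 = 1 := by rw [conj_pow, cube E]; group
  have h7 : l = 1 := by
    have hc : Commute x l := hlx.symm
    rw [h5, hc.mul_pow, cube E, one_mul, pow_succ, hl2, one_mul] at h6
    exact h6
  rw [h7, mul_one] at h5
  refine ⟨⟨g, ?_⟩, Subtype.ext hg⟩
  rw [Subgroup.mem_centralizer_singleton_iff]
  exact mul_inv_eq_iff_eq_mul.1 h5

theorem phi_ker (E : _root_.Cfsg.Agent.H337.ThreeCent.Ext (xC x)) (hcl : ∀ u : G, orderOf u = 3 → IsConj x u)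
    {K : Subgroup G} [hK : K.Normal] (h3 : ¬ 3 ∣ Nat.card K) :
    (phi K x).ker ≤ Subgroup.center (Subgroup.centralizer ({x} : Set G)) := by
  intro c hc
  have h4 : ((c : G) : G ⧸ K) = 1 := congrArg Subtype.val hc
  have h5 : (c : G) ∈ K := (QuotientGroup.eq_one_iff _).1 h4
  rw [Subgroup.mem_center_iff]
  intro g
  exact Subtype.ext ((normal_elt E hcl hK h3 h5).1 g (Subgroup.mem_centralizer_singleton_iff.1 g.2)).symm

theorem quot_ext (E : _root_.Cfsg.Agent.H337.ThreeCent.Ext (xC x)) (hcl : ∀ u : G, orderOf u = 3 → IsConj x u)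
    {K : Subgroup G} [hK : K.Normal] (h3 : ¬ 3 ∣ Nat.card K) : _root_.Cfsg.Agent.H337.ThreeCent.Ext (xC (x : G ⧸ K)) := by
  have h1 : phi K x (xC x) = xC (x : G ⧸ K) := rfl
  rw [← h1]
  apply of_surj E (phi K x) (phi_surj E hcl h3) (phi_ker E hcl h3)
  rw [h1]
  intro h
  have h4 : (x : G ⧸ K) = 1 := congrArg Subtype.val h
  exact h3 (three_dvd_of_mem (ox E) ((QuotientGroup.eq_one_iff _).1 h4))

/-- **The general case.** -/
theorem isoJ4 (T : OrderTable.{u}) (S0 : ∀ (Γ : Type u) [Group Γ] [Finite Γ] [IsSimpleGroup Γ], IsKnownSimple' Γ)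
    (E : _root_.Cfsg.Agent.H337.ThreeCent.Ext (xC x)) (hcl : ∀ u : G, orderOf u = 3 → IsConj x u) : Spor.IsoJ4 G := by
  by_cases hK : ∀ K : Subgroup G, K.Normal → ¬ 3 ∣ Nat.card K → K = ⊥
  · have hs := simple_of E hcl hK
    exact SimpleCase.isoJ4 T (S0 G) E (fun y z hy hz => (hcl y hy).symm.trans (hcl z hz))
  · exfalso
    push Not at hK
    obtain ⟨K, hKn, h3, hK1⟩ := hK
    have E' := quot_ext E hcl h3
    have hcl' := quot_cl E hcl h3
    -- the centre has order 3
    have hZ' : Nat.card (Subgroup.center (Subgroup.centralizer ({(x : G ⧸ K)} : Set (G ⧸ K)))) = 3 := by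
      rcases E'.card with h | h
      · exact h
      · exfalso
        have h6 : Nat.card (Subgroup.center (Subgroup.centralizer ({x} : Set G))) ≤ 6 := by
          rcases E.card with h | h <;> omega
        have h7 : Nat.card (Subgroup.centralizer ({x} : Set G)) ≤
            Nat.card (Subgroup.centralizer ({(x : G ⧸ K)} : Set (G ⧸ K))) := by
          rw [E.card_C, E'.card_C, h]
          exact Nat.mul_le_mul_left _ h6
        have h8 : Function.Bijective (phi K x) :=
          (phi_surj E hcl h3).bijective_of_nat_card_le h7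
        apply hK1
        rw [eq_bot_iff]
        intro k hk
        have hkx := (normal_elt E hcl hKn h3 hk).2.1
        have h9 : phi K x ⟨k, Subgroup.mem_centralizer_singleton_iff.2 hkx⟩ = phi K x 1 := by
          rw [map_one]
          exact Subtype.ext ((QuotientGroup.eq_one_iff _).2 hk)
        exact Subgroup.mem_bot.2 (congrArg Subtype.val (h8.1 h9))
    have hs := simple_of E' hcl' (fun L hL hL3 => normal_eq_bot E' hcl' hZ' hL hL3)
    have hJ := SimpleCase.isoJ4 T (S0 (G ⧸ K)) E' (fun y z hy hz => (hcl' y hy).symm.trans (hcl' z hz))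
    obtain ⟨z, P, hzP⟩ := isOfJankoFourType_of_isoJ4 hJ
    apply GenJ4.no_three hzP (fun r hr => ext_conj E' (hcl' r hr))
    intro r hr
    obtain ⟨hn⟩ : Nonempty Unit := ⟨()⟩
    have h1 := SimpleCase.cent_conj (hcl' r hr)
    rw [E'.card_C, (ext_conj E' (hcl' r hr)).card_C, hZ'] at h1
    omega

end

end Cfsg.Agent.H337.GenMain
end
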